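import Groth.Agent.VertInter.Len
import Groth.Agent.CartFilt.Basic

/-!
# The closed fibre against a vertical curve
-/

set_option autoImplicit false
set_option linter.style.haveILetI false
universe u
open CategoryTheory CategoryTheory.Limits AlgebraicGeometry TopologicalSpace

namespace Groth.Agent.VertInter

open Groth.Agent.CartFilt Groth.Agent.Props.GenTensor Groth.Agent.Props.GenLocus Groth.Agent.QCoh
open Groth.Agent.PullStalk.Sky Groth.Agent.PullStalk.Exact Groth.Agent.NegVan

section Mul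

variable {X : Scheme.{u}} [IsLocallyNoetherian X]

/-- The image of `I ⊗ J ⟶ O` has the stalks of `I * J`. -/
theorem rangeEq_mul {I J : X.IdealSheafData} (hI : BlowUp.IsEffCartierIdeal I)
    (hJ : BlowUp.IsEffCartierIdeal J) : ∀ x, ∃ g,
      RangeEq (CartFilt.α J (ClSub.idealMod I) ≫ ClSub.idealModι I) x g ∧
      RangeEq (ClSub.idealModι (I * J)) x g := by
  intro x
  obtain ⟨U, hx, -, f, g, hf, hg, e, e'⟩ := IdealSh.EffCartier.exists_equation₂ hI hJ x ⊤ trivial
  have hIJ : IsEqn (I * J) U (f * g) := ⟨mul_mem hf hg, by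
    rw [Scheme.IdealSheafData.ideal_mul, Pi.mul_apply, e, e', Ideal.span_singleton_mul_span_singleton]⟩
  refine ⟨_, ?_, range_idealModι hIJ hx⟩
  rw [map_mul]
  obtain ⟨eJ, heJ, hgJ⟩ := exists_gen (I := J) ⟨hg, e'⟩
  have hI' := range_idealModι (I := I) ⟨hf, e⟩ hx
  have hr := mem_range_mulθ_iff (ClSub.idealModι J) (ClSub.idealMod I) heJ x hx
  intro t
  constructor
  · rintro ⟨z, rfl⟩
    obtain ⟨s, hs⟩ := (hr _).1 (LinearMap.mem_range_self _ z)
    obtain ⟨s', hs'⟩ := (hI' _).1 ⟨s, rfl⟩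
    refine ⟨s', ?_⟩
    refine Eq.trans ?_ (stalkLin_comp' _ _ x _).symm
    refine Eq.trans ?_ (congrArg (stalkLin (ClSub.idealModι I) x) hs)
    rw [map_smul, ← hs', hgJ, mul_comm, mul_smul]
  · rintro ⟨s, rfl⟩
    obtain ⟨z, hz⟩ := (hI' _).2 ⟨s, rfl⟩
    obtain ⟨w, hw⟩ := LinearMap.mem_range.1 ((hr _).2 ⟨z, rfl⟩)
    refine ⟨w, ?_⟩
    refine ((stalkLin_comp' _ _ x w).trans (congrArg (stalkLin (ClSub.idealModι I) x) hw)).trans ?_
    rw [map_smul, hz, hgJ, mul_comm, mul_smul]

/-- The module of a product of Cartier ideals is the tensor product. -/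
theorem nonempty_idealMod_mul {I J : X.IdealSheafData} (hI : BlowUp.IsEffCartierIdeal I)
    (hJ : BlowUp.IsEffCartierIdeal J) :
    Nonempty (CohB1.tensorMod (ClSub.idealMod I) (ClSub.idealMod J) ≅ ClSub.idealMod (I * J)) := by
  haveI := CartFilt.mono_α hJ _ (IdealSh.IdealMod.isInvertible_of_isEffCartierIdeal I hI)
  haveI : Mono (ClSub.idealModι I) := inferInstanceAs (Mono (kernel.ι _))
  haveI : Mono (CartFilt.α J (ClSub.idealMod I) ≫ ClSub.idealModι I) := mono_comp _ _
  exact ⟨(CartFilt.exists_iso_idealMod (I * J) _ (rangeEq_mul hI hJ)).choose⟩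

end Mul

variable {R : Type u} [CommRing R] [IsDomain R] [IsDiscreteValuationRing R]
  {X : Over (Spec (CommRingCat.of R))} [IsProper X.hom] (Γ : ArSurf.VertComp R X)

omit [IsDomain R] [IsDiscreteValuationRing R] in
theorem isLocallyNoetherian_of_proper [IsNoetherianRing R] : IsLocallyNoetherian X.left :=
  LocallyOfFiniteType.isLocallyNoetherian X.hom

theorem inter_ideal_one : ArSurf.inter R X (ClSub.idealMod (1 : X.left.IdealSheafData)) Γ = 0 := by
  haveI := isLocallyNoetherian_of_proper (R := R) (X := X)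
  obtain ⟨e⟩ := (CartFilt.nonempty_cokernel_θ (I := (⊤ : X.left.IdealSheafData)) IdealSh.EffCartier.top 0).2
  rw [pow_zero] at e
  rw [← inter_iso Γ e]
  exact inter_structure Γ

theorem inter_ideal_mul {I J : X.left.IdealSheafData} (hI : BlowUp.IsEffCartierIdeal I)
    (hJ : BlowUp.IsEffCartierIdeal J) :
    ArSurf.inter R X (ClSub.idealMod (I * J)) Γ =
      ArSurf.inter R X (ClSub.idealMod I) Γ + ArSurf.inter R X (ClSub.idealMod J) Γ := by
  haveI := isLocallyNoetherian_of_proper (R := R) (X := X)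
  rw [← inter_iso Γ (nonempty_idealMod_mul hI hJ).some]
  exact inter_tensor Γ (IdealSh.IdealMod.isInvertible_of_isEffCartierIdeal I hI)
    (IdealSh.IdealMod.isInvertible_of_isEffCartierIdeal J hJ)

theorem inter_ideal_pow {I : X.left.IdealSheafData} (hI : BlowUp.IsEffCartierIdeal I) (m : ℕ) :
    ArSurf.inter R X (ClSub.idealMod (I ^ m)) Γ = m * ArSurf.inter R X (ClSub.idealMod I) Γ := by
  induction m with
  | zero => rw [pow_zero, inter_ideal_one Γ]; simp
  | succ m ih =>
    rw [pow_succ, inter_ideal_mul Γ (IdealSh.EffCartier.pow hI m) hI, ih]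
    push_cast; ring

theorem inter_ideal_prod {ι : Type*} (s : Finset ι) (I : ι → X.left.IdealSheafData)
    (hI : ∀ i, BlowUp.IsEffCartierIdeal (I i)) :
    BlowUp.IsEffCartierIdeal (∏ i ∈ s, I i) ∧
      ArSurf.inter R X (ClSub.idealMod (∏ i ∈ s, I i)) Γ =
        ∑ i ∈ s, ArSurf.inter R X (ClSub.idealMod (I i)) Γ := by
  classical
  induction s using Finset.induction with
  | empty =>
    simp only [Finset.prod_empty, Finset.sum_empty]
    exact ⟨by simpa using IdealSh.EffCartier.pow (IdealSh.EffCartier.top (X := X.left)) 0, inter_ideal_one Γ⟩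
  | insert a s ha ih =>
    rw [Finset.prod_insert ha, Finset.sum_insert ha, inter_ideal_mul Γ (hI a) ih.1, ih.2]
    exact ⟨IdealSh.EffCartier.mul (hI a) ih.1, rfl⟩

theorem inter_ideal_fibre [Flat X.hom] :
    ArSurf.inter R X (ClSub.idealMod (Models.specialFibreIdeal R X)) Γ = 0 := by
  haveI := isLocallyNoetherian_of_proper (R := R) (X := X)
  obtain ⟨ϖ, hϖ⟩ := IsDiscreteValuationRing.exists_irreducible R
  obtain ⟨e⟩ := CartFilt.nonempty_structure_iso_of_eqn (S3313.isEffCartier_fibre X)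
    (X.hom.appTop ((Scheme.ΓSpecIso (CommRingCat.of R)).inv ϖ)) fun U => by
      refine (IdealSh.Comap.ofIdealTop_comap _ X.hom U).trans ?_
      rw [hϖ.maximalIdeal_eq, Ideal.map_span, Ideal.map_span, Set.image_singleton, Set.image_singleton]
      rfl
  rw [← inter_iso Γ e, inter_structure]

/-- The closed fibre is numerically trivial on every vertical curve. -/
theorem sum_mult_eq_zero {Y : Scheme.{u}} (p : Y ⟶ Spec (CommRingCat.of R)) [IsProper p] [Flat p]
    (hreg : Models.IsRegularScheme Y) {n : ℕ} (Δ : Fin n → ArSurf.VertComp R (Over.mk p))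
    (hΔ : Models.IsComponentList R (Over.mk p) Δ) (L : Fin n → Y.Modules)
    (hL : ∀ i, ClSub.IsInverseOf (L i) (ClSub.idealMod (Δ i).ι.ker)) (E : ArSurf.VertComp R (Over.mk p)) :
    ∑ j, (Models.mult R (Over.mk p) (Δ j) : ℤ) * ArSurf.inter R (Over.mk p) (L j) E = 0 := by
  haveI : IsProper (Over.mk p).hom := ‹IsProper p›
  haveI : Flat (Over.mk p).hom := ‹Flat p›
  obtain ⟨hcart, heq⟩ := S3313.eq_prod p ‹Flat p› inferInstance hreg Δ hΔ
  have h := inter_ideal_fibre E
  rw [heq, (inter_ideal_prod E _ _ fun i => IdealSh.EffCartier.pow (hcart i) _).2] at h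
  rw [← neg_eq_zero, ← h, ← Finset.sum_neg_distrib]
  refine Finset.sum_congr rfl fun j _ => ?_
  rw [inter_ideal_pow E (hcart j)]
  linear_combination (-(Models.mult R (Over.mk p) (Δ j) : ℤ)) * inter_inverse E (hcart j) (hL j)

end Groth.Agent.VertInter
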