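import Groth.Agent.VertInter.Euler
import Groth.Agent.EulerChar.CurveVanish
import Groth.Agent.LimTop.PullSys

/-!
# Functions on vertical divisors: injectivity of restriction
-/

set_option autoImplicit false
set_option linter.style.haveILetI false
universe u
open CategoryTheory CategoryTheory.Limits AlgebraicGeometry TopologicalSpace

noncomputable section

namespace Groth.Agent.VertInter

open Groth.Agent.CartFilt Groth.Agent.Props.GenLocus Groth.Agent.QCoh

variable {R : Type u} [CommRing R] [IsDomain R] [IsDiscreteValuationRing R]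
  {X : Over (Spec (CommRingCat.of R))} [IsProper X.hom] (Γ : ArSurf.VertComp R X)

local notation "k" => IsLocalRing.ResidueField R

/-- No sections in negative degree. -/
theorem subsingleton_sections_of_inter_neg {L : X.left.Modules} (hL : PicF.IsInvertible L)
    (h : ArSurf.inter R X L Γ < 0) :
    Subsingleton ↑(Scheme.Modules.presheaf ((Scheme.Modules.pullback Γ.ι).obj L) |>.obj (Opposite.op ⊤)) := by
  refine subsingleton_of_forall_eq 0 fun σ => by_contra fun hσ => ?_
  have hφ : homOfSec σ ≠ 0 := by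
    intro h0
    apply hσ
    have h1 := sec_homOfSec σ ⊤
    rw [h0] at h1
    refine (?_ : σ = res ((Scheme.Modules.pullback Γ.ι).obj L) le_top σ).trans (h1.symm.trans ?_)
    · exact (res_self _ le_rfl σ).symm
    · rfl
  have hO := PicLoc.isInvertible_structureModule Γ.curve.left
  have h1 := (EulerChar.euler_le_of_ne_zero hO (pullback_invertible Γ hL) (homOfSec σ) hφ k Γ.dim_eq).1
  rw [inter_eq_deg, Curv2.deg] at h
  push_cast at h
  linarith

omit Γ in
/-- The short exact sequence of `O/IJ`, compatibly with the quotient maps. -/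
theorem exists_mulShort_fac {I J : X.left.IdealSheafData} (hI : BlowUp.IsEffCartierIdeal I)
    (hJ : BlowUp.IsEffCartierIdeal J) : ∃ S : ShortComplex X.left.Modules, S.ShortExact ∧
      Nonempty (S.X₁ ≅ CohB1.tensorMod (ClSub.idealMod I) (ClSub.quotMod J)) ∧
      ∃ (e₂ : S.X₂ ≅ ClSub.quotMod (I * J)) (e₃ : S.X₃ ≅ ClSub.quotMod I),
        ClSub.toSubscheme (I * J) ≫ e₂.inv ≫ S.g ≫ e₃.hom = ClSub.toSubscheme I := by
  haveI := isLocallyNoetherian_of_proper (R := R) (X := X)
  have hi := IdealSh.IdealMod.isInvertible_of_isEffCartierIdeal I hI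
  haveI : (ClSub.idealMod I).IsQuasicoherent := ProjTwist.isQCoh_of_isInvertible hi
  let a := CartFilt.α J (ClSub.idealMod I)
  let b := ClSub.idealModι I
  haveI : Mono a := CartFilt.mono_α hJ _ hi
  haveI : Mono b := inferInstanceAs (Mono (kernel.ι _))
  haveI : Mono (a ≫ b) := mono_comp _ _
  obtain ⟨e, he⟩ := CartFilt.exists_iso_idealMod (I * J) (a ≫ b) (rangeEq_mul hI hJ)
  let S := ShortComplex.mk (cokernel.map a (a ≫ b) (𝟙 _) b (Category.id_comp _).symm)
    (cokernel.map (a ≫ b) b a (𝟙 _) (Category.comp_id _))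
    (Cofork.IsColimit.hom_ext (cokernelIsCokernel a) (by simp))
  let e₂ : S.X₂ ≅ ClSub.quotMod (I * J) :=
    cokernel.mapIso (a ≫ b) (ClSub.idealModι (I * J)) e (Iso.refl _) (by simp [he]) ≪≫
      (cokernelIsCokernel _).coconePointUniqueUpToIso (EulerChar.shortExact_ideal (I * J)).gIsCokernel
  let e₃ : S.X₃ ≅ ClSub.quotMod I :=
    (cokernelIsCokernel _).coconePointUniqueUpToIso (EulerChar.shortExact_ideal I).gIsCokernel
  refine ⟨S, ?_, ⟨CartFilt.cokerαIso J (ClSub.idealMod I)⟩, e₂, e₃, ?_⟩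
  · have h := kernelCokernelCompSequence_exact a b
    refine { exact := ?_, mono_f := ?_, epi_g := ?_ }
    · exact h.exact 3
    · exact (h.exact 2).mono_g (IsZero.eq_of_src (isZero_kernel_of_mono b) _ _)
    · exact inferInstanceAs (Epi ((kernelCokernelCompSequence a b).map' 4 5))
  · have h2 : cokernel.π (a ≫ b) ≫ e₂.hom = ClSub.toSubscheme (I * J) := by
      have h := (cokernelIsCokernel (ClSub.idealModι (I * J))).comp_coconePointUniqueUpToIso_hom
        (EulerChar.shortExact_ideal (I * J)).gIsCokernel WalkingParallelPair.one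
      simp [e₂]
      exact h
    have h3 : cokernel.π b ≫ e₃.hom = ClSub.toSubscheme I :=
      (cokernelIsCokernel (ClSub.idealModι I)).comp_coconePointUniqueUpToIso_hom
        (EulerChar.shortExact_ideal I).gIsCokernel WalkingParallelPair.one
    rw [← h2, Category.assoc, e₂.hom_inv_id_assoc, ← Category.assoc]
    simp [S]
    exact h3

omit Γ in
omit [IsProper X.hom] in
/-- A map compatible with the quotient maps is the restriction of functions. -/
theorem app_top_eq_inclusion {I J : X.left.IdealSheafData} (h : J ≤ I)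
    (φ : ClSub.quotMod J ⟶ ClSub.quotMod I) (hφ : ClSub.toSubscheme J ≫ φ = ClSub.toSubscheme I)
    (t : Γ(ClSub.quotMod J, (⊤ : X.left.Opens))) :
    φ.app ⊤ t = (show Γ(ClSub.quotMod I, (⊤ : X.left.Opens)) from
      (Scheme.IdealSheafData.inclusion h).appTop (show Γ(J.subscheme, ⊤) from t)) := by
  refine LimTop.stalk_ext (ClSub.quotMod I) _ _ fun x _ => ?_
  obtain ⟨U, hU, hxU, -⟩ := exists_isAffineOpen_mem_and_subset (TopologicalSpace.Opens.mem_top x)
  rw [← AssSch.Stalk.germM_res (ClSub.quotMod I) (le_top : U ≤ ⊤) x hxU (φ.app ⊤ t),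
    ← AssSch.Stalk.germM_res (ClSub.quotMod I) (le_top : U ≤ ⊤) x hxU (show Γ(ClSub.quotMod I, (⊤ : X.left.Opens)) from
      (Scheme.IdealSheafData.inclusion h).appTop (show Γ(J.subscheme, ⊤) from t)), ← app_res]
  refine congrArg _ ?_
  obtain ⟨r, hr⟩ : ∃ r, (ClSub.toSubscheme J).app U r = res (ClSub.quotMod J) (le_top : U ≤ ⊤) t :=
    J.subschemeι_app_surjective ⟨U, hU⟩ _
  rw [← hr]
  have h1 : φ.app U ((ClSub.toSubscheme J).app U r) = I.subschemeι.app U r := by
    exact congr(Scheme.Modules.Hom.app $hφ U r)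
  refine h1.trans ?_
  have hk : ∀ (g : I.subscheme ⟶ X.left), g = I.subschemeι → ∀ (e : I.subschemeι ⁻¹ᵁ U ≤ g ⁻¹ᵁ U),
      g.appLE U (I.subschemeι ⁻¹ᵁ U) e r = I.subschemeι.app U r := by
    rintro _ rfl e
    rw [Scheme.Hom.app_eq_appLE]
  have e0 : I.subschemeι ⁻¹ᵁ U ≤ Scheme.IdealSheafData.inclusion h ⁻¹ᵁ (J.subschemeι ⁻¹ᵁ U) := by
    rw [← Scheme.Hom.comp_preimage, Scheme.IdealSheafData.inclusion_subschemeι]
  refine (hk _ (Scheme.IdealSheafData.inclusion_subschemeι h) e0).symm.trans ?_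
  have hc : (Scheme.IdealSheafData.inclusion h ≫ J.subschemeι).appLE U (I.subschemeι ⁻¹ᵁ U) e0 =
      J.subschemeι.app U ≫ (Scheme.IdealSheafData.inclusion h).appLE (J.subschemeι ⁻¹ᵁ U) _ e0 :=
    Scheme.Hom.comp_appLE _ _ _ _ _
  rw [hc]
  refine (congrArg (fun z => (Scheme.IdealSheafData.inclusion h).appLE (J.subschemeι ⁻¹ᵁ U) _ e0 z) hr).trans ?_
  refine (ConcreteCategory.congr_hom ((Scheme.IdealSheafData.inclusion h).map_appLE e0
    (homOfLE (le_top : J.subschemeι ⁻¹ᵁ U ≤ ⊤)).op) t).trans ?_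
  exact (ConcreteCategory.congr_hom ((Scheme.IdealSheafData.inclusion h).appLE_map
    (le_rfl : Scheme.IdealSheafData.inclusion h ⁻¹ᵁ ⊤ ≤ Scheme.IdealSheafData.inclusion h ⁻¹ᵁ ⊤)
    (homOfLE (le_top : I.subschemeι ⁻¹ᵁ U ≤ ⊤)).op) t).symm.trans
      (congrArg (fun φ => I.subscheme.presheaf.map (homOfLE (le_top : I.subschemeι ⁻¹ᵁ U ≤ ⊤)).op (φ t))
        (Scheme.Hom.appLE_eq_app (Scheme.IdealSheafData.inclusion h) (U := ⊤)))

/-- Restriction of functions to a smaller divisor is injective when the twist has negative degree. -/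
theorem injective_inclusion {I : X.left.IdealSheafData} (hI : BlowUp.IsEffCartierIdeal I)
    (hΓ : BlowUp.IsEffCartierIdeal Γ.ι.ker) (hneg : ArSurf.inter R X (ClSub.idealMod I) Γ < 0)
    (h : I * Γ.ι.ker ≤ I) :
    Function.Injective (Scheme.IdealSheafData.inclusion h).appTop := by
  obtain ⟨S, hS, ⟨e₁⟩, e₂, e₃, hfac⟩ := exists_mulShort_fac hI hΓ
  have hi := IdealSh.IdealMod.isInvertible_of_isEffCartierIdeal I hI
  have hsub : Subsingleton (Coh.HH X.left S.X₁ 0) := by
    let e : S.X₁ ≅ (Scheme.Modules.pushforward Γ.ι).obj ((Scheme.Modules.pullback Γ.ι).obj (ClSub.idealMod I)) :=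
      e₁ ≪≫ ProjTwist.tensCongr (Iso.refl _) (nonempty_quotMod_ker Γ.ι).some.symm ≪≫
        EulerChar.tensQuotIso Γ.ι (ClSub.idealMod I)
    haveI : Subsingleton ↑Γ((Scheme.Modules.pushforward Γ.ι).obj
        ((Scheme.Modules.pullback Γ.ι).obj (ClSub.idealMod I)), ⊤) :=
      subsingleton_sections_of_inter_neg Γ hi hneg
    haveI : Subsingleton (Coh.HH X.left ((Scheme.Modules.pushforward Γ.ι).obj
        ((Scheme.Modules.pullback Γ.ι).obj (ClSub.idealMod I))) 0) :=
      (ProperFin.h0Sec _).toEquiv.subsingleton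
    exact (CohLin.hIso e 0).toEquiv.subsingleton
  refine (injective_iff_map_eq_zero _).mpr fun t ht => ?_
  replace ht : (e₂.inv ≫ S.g ≫ e₃.hom).app ⊤ t = 0 :=
    (app_top_eq_inclusion h (e₂.inv ≫ S.g ≫ e₃.hom) hfac t).trans ht
  let y := (ProperFin.h0Sec S.X₂).symm (e₂.inv.app ⊤ t)
  have hy : CohLin.hMap S.g 0 y = 0 := by
    apply (ProperFin.h0Sec S.X₃).injective
    refine ((ProperFin.h0Sec_hMap S.g y).trans ?_).trans (map_zero _).symm
    refine (congrArg (fun z => S.g.app ⊤ z) ((ProperFin.h0Sec S.X₂).apply_symm_apply _)).trans ?_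
    have h2 := congrArg (e₃.inv.app ⊤) ht
    rw [map_zero] at h2
    refine Eq.trans ?_ h2
    exact (congr(Scheme.Modules.Hom.app $(e₃.hom_inv_id) ⊤ (S.g.app ⊤ (e₂.inv.app ⊤ t)))).symm
  obtain ⟨z, hz⟩ := CohLin.exists_hMap_f_eq hS y hy
  rw [Subsingleton.elim z 0, map_zero] at hz
  have h4 : e₂.inv.app ⊤ t = 0 :=
    ((ProperFin.h0Sec S.X₂).apply_symm_apply _).symm.trans
      ((congrArg (ProperFin.h0Sec S.X₂) hz.symm).trans (map_zero _))
  have h5 := congrArg (e₂.hom.app ⊤) h4
  rw [map_zero] at h5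
  refine Eq.trans ?_ h5
  exact (congr(Scheme.Modules.Hom.app $(e₂.inv_hom_id) ⊤ t)).symm

/-- A divisor on which restriction to one of its curves is injective has a field of functions. -/
theorem isField_of_injective {J : X.left.IdealSheafData} (h : J ≤ Γ.ι.ker)
    (hinj : Function.Injective (Scheme.IdealSheafData.inclusion h).appTop) :
    IsField Γ(J.subscheme, ⊤) := by
  haveI : IsIso Γ.ι.toImage := inferInstance
  haveI : IsIso Γ.ι.toImage.appTop := inferInstanceAs (IsIso (Scheme.Γ.map Γ.ι.toImage.op))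
  let g : Γ.curve.left ⟶ J.subscheme := Γ.ι.toImage ≫ Scheme.IdealSheafData.inclusion h
  have hg : g ≫ J.subschemeι = Γ.ι := by
    simp only [g, Category.assoc, Scheme.IdealSheafData.inclusion_subschemeι]
    exact Γ.ι.toImage_imageι
  let ψ : Γ(J.subscheme, ⊤) →+* Γ(Γ.curve.left, ⊤) := g.appTop.hom
  have hψ : Function.Injective ψ := by
    show Function.Injective g.appTop
    simp only [g, Scheme.Hom.comp_appTop]
    exact (ConcreteCategory.bijective_of_isIso Γ.ι.toImage.appTop).1.comp hinj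
  let ρ : R →+* Γ(J.subscheme, ⊤) := (J.subschemeι.appTop.hom).comp (Coh.toGlobal X.hom)
  have hsq : ∀ r : R, ψ (ρ r) = Coh.toGlobal Γ.curve.hom (IsLocalRing.residue R r) := fun r => by
    refine Eq.trans ?_ (S7915.toGlobal_square (IsLocalRing.residue R) Γ.ι X.hom Γ.curve.hom Γ.w r)
    exact congr(($hg).appTop (Coh.toGlobal X.hom r))
  letI : Algebra k Γ(J.subscheme, ⊤) := (Ideal.Quotient.lift (IsLocalRing.maximalIdeal R) ρ fun r hr =>
    hψ (by rw [hsq, (IsLocalRing.residue_eq_zero_iff r).2 hr]; exact (map_zero _).trans (map_zero ψ).symm)).toAlgebra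
  letI : Algebra k Γ(Γ.curve.left, ⊤) := (Coh.toGlobal (A := k) Γ.curve.hom).toAlgebra
  let θ : Γ(J.subscheme, ⊤) →ₐ[k] Γ(Γ.curve.left, ⊤) :=
    { ψ with
      commutes' := fun c => by
        obtain ⟨r, rfl⟩ := IsLocalRing.residue_surjective c
        exact hsq r }
  haveI : IsProper Γ.curve.hom := isProper_curve Γ
  haveI : Algebra.IsIntegral k Γ(Γ.curve.left, ⊤) := by
    refine (algebraMap_isIntegral_iff).mp ?_
    refine RingHom.IsIntegral.trans _ _ (RingHom.isIntegral_of_surjective _ ?_)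
      (isIntegral_appTop_of_universallyClosed Γ.curve.hom)
    exact (ConcreteCategory.bijective_of_isIso (Scheme.ΓSpecIso (CommRingCat.of k)).inv).2
  haveI : Algebra.IsIntegral k Γ(J.subscheme, ⊤) :=
    ⟨fun x => (isIntegral_algHom_iff θ hψ).mp (Algebra.IsIntegral.isIntegral (θ x))⟩
  haveI : IsDomain Γ(J.subscheme, ⊤) := hψ.isDomain ψ
  exact isField_of_isIntegral_of_isField' (Field.toIsField k)

section List

variable {n : ℕ} (Δ : Fin n → ArSurf.VertComp R X)
  (hc : ∀ i, BlowUp.IsEffCartierIdeal (Δ i).ι.ker) (L : Fin n → X.left.Modules)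
  (hL : ∀ i, ClSub.IsInverseOf (L i) (ClSub.idealMod (Δ i).ι.ker))

omit Γ in
include hc hL in
/-- A divisor all of whose proper subdivisors through a curve have positive intersection with a
further curve has a field of functions. -/
theorem isField_divIdeal (m : Fin n → ℕ) (i₀ : Fin n) (hi₀ : 1 ≤ m i₀)
    (hstep : ∀ z : Fin n → ℕ, (∀ j, z j ≤ m j) → 1 ≤ z i₀ → z ≠ m →
      ∃ i, z i < m i ∧ 0 < ∑ j, (z j : ℤ) * ArSurf.inter R X (L j) (Δ i)) :
    IsField Γ((divIdeal Δ m).subscheme, ⊤) := by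
  suffices key : ∀ N, ∀ z : Fin n → ℕ, (∀ j, z j ≤ m j) → 1 ≤ z i₀ → ∑ j, z j + N = ∑ j, m j →
      ∃ h : divIdeal Δ m ≤ divIdeal Δ z, Function.Injective (Scheme.IdealSheafData.inclusion h).appTop by
    let z₀ : Fin n → ℕ := fun j => if j = i₀ then 1 else 0
    have hz₀ : ∀ j, z₀ j ≤ m j := fun j => by
      by_cases h : j = i₀
      · subst h; simpa [z₀] using hi₀
      · simp [z₀, h]
    have hle : ∑ j, z₀ j ≤ ∑ j, m j := Finset.sum_le_sum fun j _ => hz₀ j
    obtain ⟨h, hinj⟩ := key (∑ j, m j - ∑ j, z₀ j) z₀ hz₀ (by simp [z₀]) (by omega)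
    have e : divIdeal Δ z₀ = (Δ i₀).ι.ker := by
      have h1 := divIdeal_succ Δ (fun _ => 0) i₀
      simp only [zero_add] at h1
      rw [h1, show divIdeal Δ (fun _ => 0) = 1 from Finset.prod_eq_one fun j _ => pow_zero _, one_mul]
    revert h
    rw [e]
    exact fun h hinj => isField_of_injective (Δ i₀) h hinj
  intro N
  induction N with
  | zero =>
    intro z hz _ hN
    have e : z = m := funext fun j => le_antisymm (hz j) (by
      by_contra hlt
      have := Finset.sum_lt_sum (fun l _ => hz l) ⟨j, Finset.mem_univ _, not_le.mp hlt⟩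
      omega)
    subst e
    exact ⟨le_rfl, by rw [Scheme.IdealSheafData.inclusion_id]; exact fun _ _ h => h⟩
  | succ N ih =>
    intro z hz hz1 hN
    obtain ⟨i, hi, hpos⟩ := hstep z hz hz1 (fun e => by subst e; omega)
    have hz' : ∀ j, z j + (if j = i then 1 else 0) ≤ m j := fun j => by
      by_cases h : j = i
      · subst h; simpa using hi
      · simpa [h] using hz j
    obtain ⟨h, hinj⟩ := ih (fun j => z j + if j = i then 1 else 0) hz' (le_trans hz1 (Nat.le_add_right _ _))
      (by rw [Finset.sum_add_distrib, Finset.sum_ite_eq']; simp; omega)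
    have hneg : ArSurf.inter R X (ClSub.idealMod (divIdeal Δ z)) (Δ i) < 0 := by
      rw [inter_divIdeal Δ hc L hL]; linarith
    revert h
    rw [divIdeal_succ]
    intro h hinj
    have h1 : divIdeal Δ z * (Δ i).ι.ker ≤ divIdeal Δ z := fun U => by
      rw [Scheme.IdealSheafData.ideal_mul, Pi.mul_apply]
      exact Ideal.mul_le.mpr fun a ha b _ => Ideal.mul_mem_right _ _ ha
    refine ⟨h.trans h1, ?_⟩
    rw [← Scheme.IdealSheafData.inclusion_comp h h1, Scheme.Hom.comp_appTop]
    exact (injective_inclusion (Δ i) (isEffCartier_divIdeal Δ hc z) (hc i) hneg h1).comp hinj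

end List

end Groth.Agent.VertInter
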