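import Mathlib.AlgebraicGeometry.Morphisms.ClosedImmersion
import Mathlib.Dynamics.Newton

/-!
# Lifting simple roots along a nilpotent closed immersion
-/

set_option autoImplicit false
set_option linter.style.haveILetI false
universe u
open CategoryTheory CategoryTheory.Limits AlgebraicGeometry TopologicalSpace Polynomial

namespace Groth.Agent.VertInter

/-- A simple root is unique in its class modulo nilpotents. -/
theorem root_unique {A : Type u} [CommRing A] {P : A[X]} {r r' : A} (h : P.eval r = 0) (h' : P.eval r' = 0)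
    (hu : IsUnit (P.derivative.eval r)) (hn : IsNilpotent (r - r')) : r = r' := by
  refine (existsUnique_nilpotent_sub_and_aeval_eq_zero (P := P) (x := r) ?_ ?_).unique ⟨?_, ?_⟩ ⟨hn, ?_⟩
  · rw [coe_aeval_eq_eval, h]; exact IsNilpotent.zero
  · rwa [coe_aeval_eq_eval]
  · simp
  · rwa [coe_aeval_eq_eval]
  · rwa [coe_aeval_eq_eval]

variable {W W' : Scheme.{u}} (j : W' ⟶ W) [IsClosedImmersion j] [Surjective j]

theorem isNilpotent_of_app_eq_zero {U : W.Opens} (hU : IsAffineOpen U) {z : Γ(W, U)}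
    (hz : j.app U z = 0) : IsNilpotent z := by
  refine isNilpotent_of_basicOpen_empty hU ?_
  refine Opens.ext (Set.eq_empty_iff_forall_notMem.mpr fun x hx => ?_)
  obtain ⟨y, rfl⟩ := j.surjective x
  have h1 : y ∈ j ⁻¹ᵁ W.basicOpen z := hx
  rw [Scheme.preimage_basicOpen, hz, Scheme.basicOpen_zero] at h1
  exact h1
where
  isNilpotent_of_basicOpen_empty {X : Scheme.{u}} {U : X.Opens} (hU : IsAffineOpen U) {z : Γ(X, U)}
      (h : X.basicOpen z = ⊥) : IsNilpotent z :=
    (PrimeSpectrum.basicOpen_eq_bot_iff z).mp (by rw [← hU.fromSpec_preimage_basicOpen z, h]; rfl)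

theorem isUnit_of_app {U : W.Opens} (hU : IsAffineOpen U) {z : Γ(W, U)}
    (hz : IsUnit (j.app U z)) : IsUnit z := by
  obtain ⟨w, hw⟩ := hz.exists_right_inv
  obtain ⟨y, rfl⟩ := j.app_surjective U hU w
  have hn : IsNilpotent (z * y - 1) := isNilpotent_of_app_eq_zero j hU (by rw [map_sub, map_mul, hw, map_one, sub_self])
  have h1 := hn.isUnit_add_one
  rw [sub_add_cancel] at h1
  exact isUnit_of_mul_isUnit_left h1

/-- A simple root on a nilpotently closed subscheme lifts to a global section. -/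
theorem exists_root_lift (P : Γ(W, ⊤)[X]) (b : Γ(W', ⊤)) (h0 : P.eval₂ j.appTop.hom b = 0)
    (hu : IsUnit (P.derivative.eval₂ j.appTop.hom b)) : ∃ c : Γ(W, ⊤), j.appTop c = b := by
  let res : ∀ U : W.Opens, Γ(W, ⊤) →+* Γ(W, U) := fun U => (W.presheaf.map (homOfLE le_top).op).hom
  let res' : ∀ U : W.Opens, Γ(W', ⊤) →+* Γ(W', j ⁻¹ᵁ U) := fun U =>
    (W'.presheaf.map (homOfLE le_top).op).hom
  have hres : ∀ U, (j.app U).hom.comp (res U) = (res' U).comp j.appTop.hom := fun U => by
    ext a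
    exact ConcreteCategory.congr_hom (j.naturality (homOfLE (le_top : U ≤ ⊤)).op) a
  have himg : ∀ (U : W.Opens) (Q : Γ(W, ⊤)[X]) (r : Γ(W, U)), j.app U r = res' U b →
      j.app U ((Q.map (res U)).eval r) = res' U (Q.eval₂ j.appTop.hom b) := fun U Q r hr => by
    rw [eval_map]
    refine (hom_eval₂ Q (res U) (j.app U).hom r).trans ?_
    rw [hres U, hom_eval₂]
    exact congrArg (fun z => Q.eval₂ ((res' U).comp j.appTop.hom) z) hr
  have hder : ∀ (U : W.Opens), IsAffineOpen U → ∀ r : Γ(W, U), j.app U r = res' U b →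
      IsUnit ((P.map (res U)).derivative.eval r) := fun U hU r hr => by
    refine isUnit_of_app j hU ?_
    rw [derivative_map, himg U _ r hr]
    exact hu.map _
  have hex : ∀ U : W.affineOpens, ∃ r : Γ(W, U.1), (P.map (res U.1)).eval r = 0 ∧ j.app U.1 r = res' U.1 b := by
    intro U
    obtain ⟨r0, hr0⟩ := j.app_surjective U.1 U.2 (res' U.1 b)
    have hn : IsNilpotent ((P.map (res U.1)).eval r0) := isNilpotent_of_app_eq_zero j U.2 (by
      rw [himg U.1 P r0 hr0, h0, map_zero])
    obtain ⟨r, ⟨hrn, hr⟩, -⟩ := existsUnique_nilpotent_sub_and_aeval_eq_zero (P := P.map (res U.1)) (x := r0)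
      (by rwa [coe_aeval_eq_eval]) (by rw [coe_aeval_eq_eval]; exact hder U.1 U.2 r0 hr0)
    rw [coe_aeval_eq_eval] at hr
    refine ⟨r, hr, ?_⟩
    have e : ∀ (Q : Γ(W, ⊤)[X]) (s : Γ(W, U.1)), ((Q.map (res U.1)).map (j.app U.1).hom).eval (j.app U.1 s) =
        j.app U.1 ((Q.map (res U.1)).eval s) := fun Q s => eval_map_apply (j.app U.1).hom s
    have h1 := root_unique (P := (P.map (res U.1)).map (j.app U.1).hom) (r := j.app U.1 r0) (r' := j.app U.1 r)
      (by rw [e, himg U.1 P r0 hr0, h0, map_zero])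
      (by rw [e, hr, map_zero])
      (by rw [derivative_map, derivative_map, e, himg U.1 _ r0 hr0]; exact hu.map _)
      (by rw [← map_sub]; exact hrn.map (j.app U.1).hom)
    rw [← h1, hr0]
  choose r hr0 hrb using hex
  have huniq : ∀ (U V : W.affineOpens) (h : V.1 ≤ U.1), W.presheaf.map (homOfLE h).op (r U) = r V := by
    intro U V h
    have hcomp : (W.presheaf.map (homOfLE h).op).hom.comp (res U.1) = res V.1 := by
      show (W.presheaf.map _ ≫ W.presheaf.map _).hom = _
      rw [← W.presheaf.map_comp]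
      rfl
    have hr : (P.map (res V.1)).eval (W.presheaf.map (homOfLE h).op (r U)) = 0 := by
      rw [← hcomp, ← Polynomial.map_map]
      refine (eval_map_apply (W.presheaf.map (homOfLE h).op).hom (r U)).trans ?_
      rw [hr0 U, map_zero]
    have hb : j.app V.1 (W.presheaf.map (homOfLE h).op (r U)) = res' V.1 b := by
      refine (ConcreteCategory.congr_hom (j.naturality (homOfLE h).op) (r U)).trans ?_
      refine (congrArg (W'.presheaf.map ((Opens.map j.base).map (homOfLE h)).op) (hrb U)).trans ?_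
      show (W'.presheaf.map _ ≫ W'.presheaf.map _).hom b = _
      rw [← W'.presheaf.map_comp]
      rfl
    refine root_unique hr (hr0 V) (hder V.1 V.2 _ hb) (isNilpotent_of_app_eq_zero j V.2 ?_)
    rw [map_sub, hb, hrb V, sub_self]
  obtain ⟨c, hc, -⟩ := W.sheaf.existsUnique_gluing' (fun U : W.affineOpens => U.1) ⊤
    (fun U => homOfLE le_top) (iSup_affineOpens_eq_top W).ge r (by
      intro U V
      refine TopCat.Presheaf.section_ext W.sheaf _ _ _ fun x hx => ?_
      obtain ⟨_, ⟨V', hV', rfl⟩, hxV', hle⟩ :=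
        W.isBasis_affineOpens.exists_subset_of_mem_open hx (U.1 ⊓ V.1).isOpen
      have e1 := huniq U ⟨V', hV'⟩ (fun y hy => (hle hy).1)
      have e2 := huniq V ⟨V', hV'⟩ (fun y hy => (hle hy).2)
      refine ((W.presheaf.germ_res_apply (homOfLE hle) x hxV' _).symm.trans ?_).trans
        (W.presheaf.germ_res_apply (homOfLE hle) x hxV' _)
      refine congrArg (W.presheaf.germ V' x hxV') ?_
      show (W.presheaf.map _ ≫ W.presheaf.map _) (r U) = (W.presheaf.map _ ≫ W.presheaf.map _) (r V)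
      rw [← W.presheaf.map_comp, ← W.presheaf.map_comp]
      exact e1.trans e2.symm)
  refine ⟨c, TopCat.Presheaf.section_ext W'.sheaf ⊤ _ _ fun y hy => ?_⟩
  obtain ⟨_, ⟨U, hU, rfl⟩, hxU, -⟩ :=
    W.isBasis_affineOpens.exists_subset_of_mem_open (Set.mem_univ (j.base y)) isOpen_univ
  refine ((W'.presheaf.germ_res_apply (homOfLE (le_top : j ⁻¹ᵁ U ≤ ⊤)) y hxU _).symm.trans ?_).trans
    (W'.presheaf.germ_res_apply (homOfLE (le_top : j ⁻¹ᵁ U ≤ ⊤)) y hxU _)
  refine congrArg (W'.presheaf.germ (j ⁻¹ᵁ U) y hxU) ?_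
  refine (ConcreteCategory.congr_hom (j.naturality (homOfLE (le_top : U ≤ ⊤)).op) c).symm.trans ?_
  exact (congrArg (j.app U) (hc ⟨U, hU⟩)).trans (hrb ⟨U, hU⟩)

end Groth.Agent.VertInter
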