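import Groth.Agent.S15136
import Groth.Agent.S0002
import Groth.Agent.VertInter.DivField
import Groth.Agent.VertInter.RootLift
import Groth.Agent.Hens.CoupleProper
import Mathlib.RingTheory.Filtration
import Mathlib.FieldTheory.Perfect

/-!
# Cohomological flatness in degree zero from a reduced ring of functions on the closed fibre
-/

set_option autoImplicit false
set_option linter.style.haveILetI false
universe u
open CategoryTheory CategoryTheory.Limits AlgebraicGeometry TopologicalSpace Polynomial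

noncomputable section

namespace Groth.Agent.VertInter

open Groth.Agent.CartFilt Groth.Agent.QCoh

theorem gen_naturality {C : Type*} [Category C] [Abelian C] [HasExt.{u} C]
    {A B D A' B' D' : C} {f : A ⟶ B} {g : B ⟶ D} {f' : A' ⟶ B'} {g' : B' ⟶ D'}
    {w : f ≫ g = 0} {w' : f' ≫ g' = 0} (h : (ShortComplex.mk f g w).ShortExact)
    (h' : (ShortComplex.mk f' g' w').ShortExact) (a : A ⟶ A') (b : B ⟶ B') (d : D ⟶ D')
    (h₁ : a ≫ f' = f ≫ b) (h₂ : b ≫ g' = g ≫ d) {K : C} {n : ℕ} (x : Abelian.Ext K D n) :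
    (x.comp (Abelian.Ext.mk₀ d) (add_zero n)).comp h'.extClass rfl =
      (x.comp h.extClass rfl).comp (Abelian.Ext.mk₀ a) (add_zero (n + 1)) := by
  rw [Abelian.Ext.comp_assoc_of_second_deg_zero, Abelian.Ext.comp_assoc_of_third_deg_zero]
  exact congrArg (fun z => x.comp z rfl)
    (ShortComplex.ShortExact.extClass_naturality h h' { τ₁ := a, τ₂ := b, τ₃ := d }).symm

/-- The connecting map is natural in the short exact sequence. -/
theorem hδ_naturality {X : Scheme.{u}} {S S' : ShortComplex X.Modules} (hS : S.ShortExact)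
    (hS' : S'.ShortExact) (φ : S ⟶ S') {n : ℕ} (x : Coh.HH X S.X₃ n) :
    CohLin.hδAdd hS' n (CohLin.hMap φ.τ₃ n x) = CohLin.hMap φ.τ₁ (n + 1) (CohLin.hδAdd hS n x) := by
  rw [CohLin.hMap_apply, CohLin.hMap_apply, CohLin.hδAdd_apply, CohLin.hδAdd_apply]
  exact gen_naturality (K := CohLin.cst X) (CohLin.shortExact_abSeq (X := X) (S := S) hS)
    (CohLin.shortExact_abSeq (X := X) (S := S') hS') (CohLin.abMap φ.τ₁) (CohLin.abMap φ.τ₂) (CohLin.abMap φ.τ₃)
    ((CohLin.abMap_comp φ.τ₁ S'.f).symm.trans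
      ((congrArg CohLin.abMap φ.comm₁₂).trans (CohLin.abMap_comp S.f φ.τ₂)))
    ((CohLin.abMap_comp φ.τ₂ S'.g).symm.trans
      ((congrArg CohLin.abMap φ.comm₂₃).trans (CohLin.abMap_comp S.g φ.τ₃))) x

variable {X : Scheme.{u}}

theorem isEffCartier_pow {I : X.IdealSheafData} (hI : BlowUp.IsEffCartierIdeal I) (n : ℕ) :
    BlowUp.IsEffCartierIdeal (I ^ n) := fun x => by
  obtain ⟨U, hxU, f, hf, he⟩ := hI x
  exact ⟨U, hxU, f ^ n, pow_mem hf n, by rw [Scheme.IdealSheafData.ideal_pow, Pi.pow_apply, he, Ideal.span_singleton_pow]⟩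

theorem scalarEnd_pow_succ (π : Γ(X, ⊤)) (n : ℕ) :
    TwSh.scalarEnd (Coh.structureModule X) (π ^ n) ≫ TwSh.scalarEnd (Coh.structureModule X) π =
      TwSh.scalarEnd (Coh.structureModule X) (π ^ (n + 1)) := by
  ext U m
  simp only [Scheme.Modules.Hom.comp_app, CategoryTheory.comp_apply, TwSh.scalarEnd_app_apply, map_pow, pow_succ']
  rw [smul_smul, map_mul, map_pow]

/-- The short exact sequence of a globally principal effective Cartier divisor. -/
theorem exists_eqn_seq [IsLocallyNoetherian X] {I : X.IdealSheafData}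
    (hI : BlowUp.IsEffCartierIdeal I) (π : Γ(X, ⊤))
    (hπ : ∀ U : X.affineOpens, I.ideal U = Ideal.span {rres (le_top : U.1 ≤ ⊤) π}) :
    ∃ w, (ShortComplex.mk (TwSh.scalarEnd (Coh.structureModule X) π) (ClSub.toSubscheme I) w).ShortExact := by
  obtain ⟨e, he⟩ := S15136.exists_iso_of_eqn hI π hπ
  have w : TwSh.scalarEnd (Coh.structureModule X) π ≫ ClSub.toSubscheme I = 0 := by
    rw [← he, Category.assoc, show ClSub.idealModι I ≫ ClSub.toSubscheme I = 0 from kernel.condition _, CategoryTheory.Limits.comp_zero]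
  let S₁ := ShortComplex.mk (ClSub.idealModι I) (ClSub.toSubscheme I) (kernel.condition _)
  let S₂ := ShortComplex.mk (TwSh.scalarEnd (Coh.structureModule X) π) (ClSub.toSubscheme I) w
  let i : S₁ ≅ S₂ := ShortComplex.isoMk e.symm (Iso.refl _) (Iso.refl _)
    (by simp [S₁, S₂, ← he]) (by simp [S₁, S₂])
  exact ⟨w, ShortComplex.shortExact_of_iso i (EulerChar.shortExact_ideal I)⟩

/-- Cohomological flatness in degree `0`, when the functions on the closed fibre form a field and
the residue field is perfect. -/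
theorem surjective_of_isField {R : Type u} [CommRing R] [IsDomain R] [IsDiscreteValuationRing R]
    [PerfectField (IsLocalRing.ResidueField R)] (p : X ⟶ Spec (CommRingCat.of R)) [IsProper p] [Flat p]
    (hF : IsField Γ((Models.specialFibreIdeal R (Over.mk p)).subscheme, ⊤)) :
    Function.Surjective (CohLin.hMap (ClSub.toSubscheme (Models.specialFibreIdeal R (Over.mk p))) 0) := by
  letI : X.Over (Spec (CommRingCat.of R)) := ⟨p⟩
  haveI : IsProper (X ↘ Spec (CommRingCat.of R)) := ‹IsProper p›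
  haveI : Flat (Over.mk p).hom := ‹Flat p›
  haveI : IsLocallyNoetherian X := LocallyOfFiniteType.isLocallyNoetherian p
  obtain ⟨ϖ, hϖ⟩ := IsDiscreteValuationRing.exists_irreducible R
  let I : X.IdealSheafData := Models.specialFibreIdeal R (Over.mk p)
  let π : Γ(X, ⊤) := Coh.toGlobal p ϖ
  have hI : BlowUp.IsEffCartierIdeal I := S3313.isEffCartier_fibre (Over.mk p)
  have hπ : ∀ (n : ℕ) (U : X.affineOpens),
      (I ^ n).ideal U = Ideal.span {rres (le_top : U.1 ≤ ⊤) (π ^ n)} := fun n U => by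
    have h1 : I.ideal U = Ideal.span {rres (le_top : U.1 ≤ ⊤) π} := by
      refine (IdealSh.Comap.ofIdealTop_comap _ p U).trans ?_
      rw [hϖ.maximalIdeal_eq, Ideal.map_span, Ideal.map_span, Set.image_singleton, Set.image_singleton]
      rfl
    rw [Scheme.IdealSheafData.ideal_pow, Pi.pow_apply, h1, Ideal.span_singleton_pow]
    congr 2
    exact (map_pow (X.presheaf.map _).hom π n).symm
  obtain ⟨w₁, hS⟩ := exists_eqn_seq hI π (fun U => by simpa using hπ 1 U)
  -- functions on the closed fibre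
  let j₁ := I.subschemeι
  let ρ : R →+* Γ(I.subscheme, ⊤) := j₁.appTop.hom.comp (Coh.toGlobal p)
  have hρϖ : ρ ϖ = 0 := by
    refine Eq.trans ?_ (congr(Scheme.Modules.Hom.app $w₁ ⊤ (1 : Γ(X, ⊤))))
    show j₁.appTop π = (ClSub.toSubscheme I).app ⊤ ((TwSh.scalarEnd (Coh.structureModule X) π).app ⊤ (1 : Γ(X, ⊤)))
    refine congrArg (fun z => j₁.appTop z) (?_ : π = X.presheaf.map (homOfLE le_top).op π * 1)
    rw [mul_one]; exact (ConcreteCategory.congr_hom (X.presheaf.map_id _) π).symm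
  have hker : ∀ a ∈ IsLocalRing.maximalIdeal R, ρ a = 0 := fun a ha => by
    rw [hϖ.maximalIdeal_eq, Ideal.mem_span_singleton] at ha
    obtain ⟨c, rfl⟩ := ha
    rw [map_mul, hρϖ, zero_mul]
  let σ : IsLocalRing.ResidueField R →+* Γ(I.subscheme, ⊤) := Ideal.Quotient.lift _ ρ hker
  have hρeq : Coh.toGlobal (j₁ ≫ p) = ρ := rfl
  have hfin : ρ.Finite := hρeq ▸ Hens.CoupleProper.finite_toGlobal (j₁ ≫ p)
  have hint : σ.IsIntegral := fun b => by
    obtain ⟨q, hq1, hq2⟩ := hfin.to_isIntegral b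
    refine ⟨q.map (IsLocalRing.residue R), hq1.map _, ?_⟩
    rw [eval₂_map]
    exact hq2
  intro y
  let b : Γ(I.subscheme, ⊤) := ProperFin.h0Sec (ClSub.quotMod I) y
  -- a separable equation for `b`
  obtain ⟨P₀, hP₀, hdP₀⟩ : ∃ P₀ : R[X], P₀.eval₂ ρ b = 0 ∧ IsUnit (P₀.derivative.eval₂ ρ b) := by
    letI := hF.toField
    letI : Algebra (IsLocalRing.ResidueField R) Γ(I.subscheme, ⊤) := σ.toAlgebra
    have hb : IsIntegral (IsLocalRing.ResidueField R) b := hint b
    obtain ⟨P₀, hP⟩ := Polynomial.map_surjective (IsLocalRing.residue R) IsLocalRing.residue_surjective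
      (minpoly (IsLocalRing.ResidueField R) b)
    have he : ∀ Q : R[X], Q.eval₂ ρ b = (Q.map (IsLocalRing.residue R)).eval₂ σ b := fun Q => by
      rw [eval₂_map]; rfl
    refine ⟨P₀, ?_, ?_⟩
    · rw [he, hP]; exact minpoly.aeval _ b
    · rw [he, ← derivative_map, hP]
      exact isUnit_iff_ne_zero.mpr ((PerfectField.separable_of_irreducible (minpoly.irreducible hb)).eval₂_derivative_ne_zero
        σ (minpoly.aeval _ b))
  -- `b` lifts to every infinitesimal neighbourhood
  have hlift : ∀ n : ℕ, CohLin.hδ hS 0 y ∈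
      (IsLocalRing.maximalIdeal R ^ n • ⊤ : Submodule R (Coh.HH X (Coh.structureModule X) 1)) := by
    intro n
    obtain ⟨wn, hSn⟩ := exists_eqn_seq (isEffCartier_pow hI (n + 1)) (π ^ (n + 1)) (hπ (n + 1))
    have hle : I ^ (n + 1) ≤ I := fun U => by
      rw [Scheme.IdealSheafData.ideal_pow, Pi.pow_apply]
      exact Ideal.pow_le_self n.succ_ne_zero
    let j := Scheme.IdealSheafData.inclusion hle
    haveI : IsClosedImmersion j :=
      haveI : IsClosedImmersion (j ≫ (I ^ (n + 1)).subschemeι) := by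
        rw [Scheme.IdealSheafData.inclusion_subschemeι]; infer_instance
      IsClosedImmersion.of_comp_isClosedImmersion j (I ^ (n + 1)).subschemeι
    haveI : Surjective j := ⟨fun z => by
      obtain ⟨z', hz'⟩ : (I ^ (n + 1)).subschemeι z ∈ Set.range I.subschemeι := by
        rw [Scheme.IdealSheafData.range_subschemeι, ← Scheme.IdealSheafData.support_pow_succ I n,
          ← Scheme.IdealSheafData.range_subschemeι]
        exact ⟨z, rfl⟩
      refine ⟨z', (I ^ (n + 1)).subschemeι.isClosedEmbedding.injective ?_⟩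
      rw [← hz', ← Scheme.Hom.comp_apply, Scheme.IdealSheafData.inclusion_subschemeι]⟩
    let ρn : R →+* Γ((I ^ (n + 1)).subscheme, ⊤) := (I ^ (n + 1)).subschemeι.appTop.hom.comp (Coh.toGlobal p)
    have hρn : j.appTop.hom.comp ρn = ρ := by
      show _ = (I.subschemeι.appTop.hom).comp _
      refine (RingHom.comp_assoc _ _ _).symm.trans ?_
      show (((I ^ (n + 1)).subschemeι.appTop ≫ j.appTop).hom).comp _ = _
      rw [← Scheme.Hom.comp_appTop, Scheme.IdealSheafData.inclusion_subschemeι]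
    obtain ⟨c, hc⟩ := exists_root_lift j (P₀.map ρn) b (by rw [eval₂_map, hρn, hP₀])
      (by rw [derivative_map, eval₂_map, hρn]; exact hdP₀)
    let T := ShortComplex.mk (TwSh.scalarEnd (Coh.structureModule X) (π ^ (n + 1)))
      (ClSub.toSubscheme (I ^ (n + 1))) wn
    haveI := hSn.epi_g
    have hz : T.f ≫ ClSub.toSubscheme I = 0 := by
      show TwSh.scalarEnd (Coh.structureModule X) (π ^ (n + 1)) ≫ _ = 0
      rw [← scalarEnd_pow_succ, Category.assoc, w₁, CategoryTheory.Limits.comp_zero]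
    obtain ⟨q, hq⟩ : ∃ q, ClSub.toSubscheme (I ^ (n + 1)) ≫ q = ClSub.toSubscheme I :=
      ⟨hSn.exact.desc (ClSub.toSubscheme I) hz, hSn.exact.g_desc _ _⟩
    let φ : T ⟶ ShortComplex.mk (TwSh.scalarEnd (Coh.structureModule X) π) (ClSub.toSubscheme I) w₁ :=
      { τ₁ := TwSh.scalarEnd (Coh.structureModule X) (π ^ n)
        τ₂ := 𝟙 _
        τ₃ := q
        comm₁₂ := by simp [T, scalarEnd_pow_succ]
        comm₂₃ := by simp [T, hq] }
    let z := (ProperFin.h0Sec (ClSub.quotMod (I ^ (n + 1)))).symm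
      (show Γ(ClSub.quotMod (I ^ (n + 1)), ⊤) from c)
    have hy : CohLin.hMap q 0 z = y := (ProperFin.h0Sec (ClSub.quotMod I)).injective (by
      rw [ProperFin.h0Sec_hMap, AddEquiv.apply_symm_apply]
      exact (app_top_eq_inclusion (X := Over.mk p) hle q hq _).trans hc)
    rw [← hy]
    have h1 := hδ_naturality hSn hS φ z
    refine h1 ▸ ?_
    have h2 : CohLin.hMap (TwSh.scalarEnd (Coh.structureModule X) (π ^ n)) 1 (CohLin.hδ hSn 0 z) =
        (ϖ ^ n) • CohLin.hδ hSn 0 z := by
      rw [CohLin.hMap_apply]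
      refine (congrArg (fun a => Abelian.Ext.comp (CohLin.hδ hSn 0 z) (Abelian.Ext.mk₀ a) (add_zero 1))
        (S15136.abMap_scalarEnd (Coh.structureModule X) (π ^ n))).trans ?_
      rw [show π ^ n = Coh.toGlobal p (ϖ ^ n) from (map_pow (Coh.toGlobal p) ϖ n).symm]
      exact (CohLin.smul_eq_comp (Coh.structureModule X) (Coh.toGlobal p (ϖ ^ n)) _).symm
    refine h2 ▸ ?_
    exact Submodule.smul_mem_smul (Ideal.pow_mem_pow (hϖ.maximalIdeal_eq ▸ Ideal.mem_span_singleton_self ϖ) n) trivial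
  haveI : Module.Finite R (Coh.HH X (Coh.structureModule X) 1) :=
    S0002.result R X (Coh.structureModule X) (ProperFin.isCoh_structureModule X) 1
  have h0 : CohLin.hδ hS 0 y = 0 := by
    have h1 := (Submodule.mem_iInf _).mpr hlift
    rwa [Ideal.iInf_pow_smul_eq_bot_of_isLocalRing _ (IsLocalRing.maximalIdeal.isMaximal R).ne_top,
      Submodule.mem_bot] at h1
  obtain ⟨v, hv⟩ := CohLin.exists_hMap_g_eq hS y h0
  exact ⟨v, hv⟩

end Groth.Agent.VertInter
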