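import Groth.Agent.S3313
import Groth.Agent.S7915
import Groth.Agent.FormalFun.Components
import Groth.Prelude.Def_Models
import Groth.Prelude.Def_Curve
import Mathlib.AlgebraicGeometry.Morphisms.Flat
import Mathlib.AlgebraicGeometry.Morphisms.Proper
import Mathlib.AlgebraicGeometry.Fiber

/-!
# Global functions and closed fibre of a proper flat model over a discrete valuation ring
-/

set_option autoImplicit false
set_option linter.style.haveILetI false
universe u
open CategoryTheory CategoryTheory.Limits AlgebraicGeometry TopologicalSpace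

namespace Groth.Agent.VertInter

variable {R : Type u} [CommRing R] [IsDomain R] [IsDiscreteValuationRing R]
  (X : Over (Spec (CommRingCat.of R)))

/-- A point outside of the closed fibre lies over the generic point. -/
theorem asIdeal_eq_bot_of_not_mem {x : X.left} (hx : x ∉ Models.specialFibreSet R X) :
    (X.hom.base x).asIdeal = ⊥ := by
  by_contra h
  refine hx (PrimeSpectrum.ext ?_)
  exact IsLocalRing.eq_maximalIdeal ((X.hom.base x).isPrime.isMaximal h)

variable {X} {C : Scheme.{u}} {f : C ⟶ Spec (CommRingCat.of (FractionRing R))} {g : C ⟶ X.left}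
  (hg : IsPullback g f X.hom (Spec.map (CommRingCat.ofHom (algebraMap R (FractionRing R)))))

include hg in
theorem mem_range_iff (x : X.left) : x ∈ Set.range g ↔ x ∉ Models.specialFibreSet R X := by
  have hr : Set.range g = X.hom ⁻¹' Set.range (Spec.map (CommRingCat.ofHom (algebraMap R (FractionRing R)))) := by
    rw [← hg.isoPullback_hom_fst, Scheme.Hom.comp_base, TopCat.coe_comp, Set.range_comp,
      Set.range_eq_univ.mpr hg.isoPullback.hom.surjective, Set.image_univ, Scheme.Pullback.range_fst]
  rw [hr]
  constructor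
  · rintro ⟨y, hy⟩ hs
    have h1 : (X.hom.base x).asIdeal = ⊥ := by
      rw [← hy]
      change Ideal.comap (algebraMap R (FractionRing R)) y.asIdeal = ⊥
      rw [(Ideal.eq_bot_or_top y.asIdeal).resolve_right y.isPrime.ne_top]
      exact Ideal.comap_bot_of_injective _ (IsFractionRing.injective R (FractionRing R))
    rw [show X.hom.base x = IsLocalRing.closedPoint R from hs] at h1
    exact IsDiscreteValuationRing.not_a_field R h1
  · intro hx
    refine ⟨⟨⊥, Ideal.isPrime_bot⟩, PrimeSpectrum.ext ?_⟩
    change Ideal.comap (algebraMap R (FractionRing R)) ⊥ = _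
    rw [asIdeal_eq_bot_of_not_mem X hx]
    exact Ideal.comap_bot_of_injective _ (IsFractionRing.injective R (FractionRing R))

include hg in
theorem injective_appTop [Flat X.hom] : Function.Injective g.appTop.hom := by
  haveI : Flat (Spec.map (CommRingCat.ofHom (algebraMap R (FractionRing R)))) :=
    Flat.SpecMap_iff.mpr (RingHom.flat_algebraMap_iff.mpr (IsLocalization.flat _ (nonZeroDivisors R)))
  haveI : Flat g := MorphismProperty.of_isPullback hg.flip inferInstance
  rw [injective_iff_map_eq_zero]
  intro a ha
  obtain ⟨ϖ, hϖ⟩ := IsDiscreteValuationRing.exists_irreducible R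
  refine TopCat.Presheaf.section_ext X.left.sheaf ⊤ a 0 fun x hx => ?_
  -- germs at points of the generic fibre
  have hgen : ∀ z : X.left, z ∉ Models.specialFibreSet R X → X.left.presheaf.germ ⊤ z trivial a = 0 := by
    intro z hz
    obtain ⟨c, rfl⟩ := (mem_range_iff hg z).mpr hz
    have h1 := g.germ_stalkMap_apply ⊤ c trivial a
    rw [show g.app ⊤ a = 0 from ha, map_zero] at h1
    have hfl : (g.stalkMap c).hom.Flat := Flat.stalkMap g c
    algebraize [(g.stalkMap c).hom]
    haveI : IsLocalHom (algebraMap (X.left.presheaf.stalk (g c)) (C.presheaf.stalk c)) :=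
      inferInstanceAs (IsLocalHom (g.stalkMap c).hom)
    haveI := Module.FaithfullyFlat.of_flat_of_isLocalHom
      (A := X.left.presheaf.stalk (g c)) (B := C.presheaf.stalk c)
    exact FaithfulSMul.algebraMap_injective (X.left.presheaf.stalk (g c)) (C.presheaf.stalk c)
      (h1.trans (map_zero _).symm)
  obtain ⟨U, hxU, -, e, he, hspan⟩ :=
    IdealSh.EffCartier.exists_equation (S3313.isEffCartier_fibre X) x ⊤ trivial
  have hzero : X.left.presheaf.map (homOfLE (le_top : U.1 ≤ ⊤)).op a = 0 := by
    refine IdealSh.Regular.eq_zero_of_restrict_basicOpen U.2 he ?_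
    refine TopCat.Presheaf.section_ext X.left.sheaf (X.left.basicOpen e) _ _ fun z hz => ?_
    refine (?_ : X.left.presheaf.germ (X.left.basicOpen e) z hz
      (X.left.presheaf.map (homOfLE (X.left.basicOpen_le e)).op
        (X.left.presheaf.map (homOfLE (le_top : U.1 ≤ ⊤)).op a)) = 0).trans (map_zero _).symm
    rw [TopCat.Presheaf.germ_res_apply, TopCat.Presheaf.germ_res_apply]
    refine hgen z fun hs => ?_
    have hzU := X.left.basicOpen_le e hz
    have h1 := S3313.stalkIdeal_fibre X hϖ z
    rw [IdealSh.stalkIdeal_eq _ U hzU, hspan, Ideal.map_span, Set.image_singleton,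
      Ideal.span_singleton_eq_top.mpr ((Scheme.mem_basicOpen _ _ z hzU).mp hz)] at h1
    exact (S3313.mem_fibre_iff X hϖ z).mp hs (Ideal.span_singleton_eq_top.mp h1.symm)
  have h2 := congrArg (X.left.presheaf.germ U.1 x hxU) hzero
  rw [TopCat.Presheaf.germ_res_apply, map_zero] at h2
  exact h2.trans (map_zero _).symm

include hg in
/-- Global functions are constants when those of the generic fibre are. -/
theorem toGlobal_bijective [Flat X.hom] [IsProper X.hom] (hH0 : IsIso f.appTop) :
    Function.Bijective (Coh.toGlobal X.hom) := by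
  have hK : Function.Bijective (Coh.toGlobal f) := by
    have h1 := ConcreteCategory.bijective_of_isIso f.appTop
    exact h1.comp (ConcreteCategory.bijective_of_isIso (Scheme.ΓSpecIso (CommRingCat.of (FractionRing R))).inv)
  have hcomm : ∀ r : R, g.appTop (Coh.toGlobal X.hom r) = Coh.toGlobal f (algebraMap R (FractionRing R) r) :=
    S7915.toGlobal_square _ g X.hom f hg.w
  refine ⟨fun r s h => IsFractionRing.injective R (FractionRing R) (hK.1 ?_), fun a => ?_⟩
  · rw [← hcomm, ← hcomm, h]
  obtain ⟨c, hc⟩ := hK.2 (g.appTop a)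
  obtain ⟨q, hq, hqa⟩ := isIntegral_appTop_of_universallyClosed X.hom a
  let θ := (Scheme.ΓSpecIso (CommRingCat.of R)).hom.hom
  have hci : IsIntegral R c := by
    refine ⟨q.map θ, hq.map _, hK.1 ?_⟩
    rw [map_zero, Polynomial.hom_eval₂, hc]
    refine (Polynomial.eval₂_map θ _ _).trans ?_
    have h0 := (Polynomial.hom_eval₂ q X.hom.appTop.hom g.appTop.hom a).symm.trans
      ((congrArg g.appTop.hom hqa).trans (map_zero _))
    refine (congrArg (fun F => Polynomial.eval₂ F (g.appTop.hom a) q) ?_).trans h0
    refine RingHom.ext fun b => ?_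
    refine (hcomm (θ b)).symm.trans (congrArg (fun x => g.appTop.hom (X.hom.appTop.hom x)) ?_)
    exact CommRingCat.inv_hom_apply (Scheme.ΓSpecIso (CommRingCat.of R)) b
  obtain ⟨r, hr⟩ := IsIntegrallyClosed.isIntegral_iff.mp hci
  exact ⟨r, injective_appTop hg (by rw [hcomm, hr, hc])⟩

include hg in
theorem nonempty_specialFibreSet [IsProper X.hom] [Nonempty C] :
    (Models.specialFibreSet R X).Nonempty := by
  obtain ⟨c⟩ := ‹Nonempty C›
  by_contra h
  rw [Set.not_nonempty_iff_eq_empty] at h
  have hr : Set.range X.hom = {⟨⊥, Ideal.isPrime_bot⟩} := by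
    refine subset_antisymm ?_ (Set.singleton_subset_iff.mpr ⟨g c, ?_⟩)
    · rintro _ ⟨x, rfl⟩
      exact PrimeSpectrum.ext (asIdeal_eq_bot_of_not_mem X (h ▸ Set.notMem_empty x))
    · exact PrimeSpectrum.ext (asIdeal_eq_bot_of_not_mem X (h ▸ Set.notMem_empty _))
  have hcl : IsClosed ({⟨⊥, Ideal.isPrime_bot⟩} : Set (Spec (CommRingCat.of R))) :=
    hr ▸ X.hom.isClosedMap.isClosed_range
  exact IsDiscreteValuationRing.not_a_field R
    (IsLocalRing.eq_maximalIdeal ((PrimeSpectrum.isClosed_singleton_iff_isMaximal _).mp hcl)).symm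

/-- If all global functions are constants the closed fibre is preconnected. -/
theorem preconnectedSpace_fiber [IsProper X.hom] (h : Function.Surjective (Coh.toGlobal X.hom)) :
    PreconnectedSpace ↥(X.hom.fiber (IsLocalRing.closedPoint R)) := by
  obtain hempty | ⟨⟨x⟩⟩ := isEmpty_or_nonempty ↥(X.hom.fiber (IsLocalRing.closedPoint R))
  · exact ⟨Set.subsingleton_of_subsingleton.isPreconnected⟩
  rw [preconnectedSpace_iff_connectedComponent]
  intro x
  by_contra hne
  obtain ⟨x', hx'⟩ : ∃ x', x' ∉ connectedComponent x := by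
    by_contra hall
    push Not at hall
    exact hne (Set.eq_univ_of_forall hall)
  obtain ⟨b, hb, hb'⟩ := FormalFun.exists_separating_of_connectedComponent_ne X.hom
    (isAffineOpen_top (Spec (CommRingCat.of R))) (y := IsLocalRing.closedPoint R) trivial
    (x := x) (x' := x') (fun e => hx' (e ▸ mem_connectedComponent))
  obtain ⟨r, hr⟩ := h b
  have key : ∀ z : X.hom.fiber (IsLocalRing.closedPoint R),
      X.hom.fiberι _ z ∈ X.left.basicOpen b ↔ r ∉ IsLocalRing.maximalIdeal R := by
    intro z
    have hz : X.hom (X.hom.fiberι _ z) = IsLocalRing.closedPoint R := by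
      have := (X.hom.fiberHomeo (IsLocalRing.closedPoint R) z).2
      exact this
    rw [← hr]
    show X.hom.fiberι _ z ∈ X.left.basicOpen (X.hom.appTop ((Scheme.ΓSpecIso (CommRingCat.of R)).inv r)) ↔ _
    rw [← Scheme.preimage_basicOpen_top]
    show X.hom (X.hom.fiberι _ z) ∈ (Spec (CommRingCat.of R)).basicOpen _ ↔ _
    rw [basicOpen_eq_of_affine, hz]
    exact Iff.rfl
  exact hb' ((key x').mpr ((key x).mp hb))

end Groth.Agent.VertInter
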