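import Groth.Agent.VertInter.List
import Groth.Agent.EulerLES.Basic
import Groth.Agent.EulerChar.AmpleCurve
import Groth.Agent.EulerChar.Push
import Groth.Agent.EulerChar.Restrict
import Groth.Agent.ClUnit.Basic

/-!
# Euler characteristics of vertical divisors as lengths on the surface
-/

set_option autoImplicit false
set_option linter.style.haveILetI false
universe u
open CategoryTheory CategoryTheory.Limits AlgebraicGeometry TopologicalSpace

noncomputable section

namespace Groth.Agent.VertInter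

variable {R : Type u} [CommRing R] [IsDomain R] [IsDiscreteValuationRing R]
  {X : Over (Spec (CommRingCat.of R))}

/-- `len H⁰ - len H¹` -/
def chi (F : X.left.Modules) : ℤ := (Models.lengthH R X F 0 : ℤ) - (Models.lengthH R X F 1 : ℤ)

/-- Cohomology of finite length, in degrees at most one. -/
def FinLen (F : X.left.Modules) : Prop :=
  (∀ n, Module.length R (Coh.HH X.left F n) ≠ ⊤) ∧ ∀ n, 2 ≤ n → Subsingleton (Coh.HH X.left F n)

theorem length_iso {F G : X.left.Modules} (e : F ≅ G) (n : ℕ) :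
    Module.length R (Coh.HH X.left F n) = Module.length R (Coh.HH X.left G n) :=
  (LinearEquiv.ofBijective (CohLin.overLin R (CohLin.hIso e n).toLinearMap)
    (CohLin.hIso e n).bijective).length_eq

theorem chi_iso {F G : X.left.Modules} (e : F ≅ G) : chi F = chi G := by
  simp only [chi, Models.lengthH, length_iso e]

theorem FinLen.of_iso {F G : X.left.Modules} (e : F ≅ G) (h : FinLen F) : FinLen G :=
  ⟨fun n => length_iso e n ▸ h.1 n, fun n hn =>
    haveI := h.2 n hn
    (CohLin.hIso e n).symm.toEquiv.subsingleton⟩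

theorem length_exact {M N P : Type u} [AddCommGroup M] [AddCommGroup N] [AddCommGroup P]
    [Module R M] [Module R N] [Module R P] {f : M →ₗ[R] N} {g : N →ₗ[R] P} (h : Function.Exact f g) :
    Module.length R N = Module.length R (LinearMap.range f) + Module.length R (LinearMap.range g) :=
  Module.length_eq_add_of_exact (LinearMap.range f).subtype g.rangeRestrict (Submodule.subtype_injective _)
    g.surjective_rangeRestrict fun x => by
      change g.rangeRestrict x = 0 ↔ _
      refine ⟨fun hx => ?_, ?_⟩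
      · obtain ⟨y, hy⟩ := (h x).1 (congrArg Subtype.val hx)
        exact ⟨⟨x, y, hy⟩, rfl⟩
      · rintro ⟨⟨_, y, rfl⟩, rfl⟩
        exact Subtype.ext ((h _).2 ⟨y, rfl⟩)

/-- Additivity along a short exact sequence. -/
theorem FinLen.of_ext {S : ShortComplex X.left.Modules} (hS : S.ShortExact) (h₁ : FinLen S.X₁)
    (h₃ : FinLen S.X₃) : FinLen S.X₂ ∧ chi S.X₂ = chi S.X₁ + chi S.X₃ := by
  haveI := h₁.2 2 le_rfl
  have hvan : ∀ n, 2 ≤ n → Subsingleton (Coh.HH X.left S.X₂ n) := fun n hn => by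
    haveI := h₁.2 n hn; haveI := h₃.2 n hn
    exact CohLin.subsingleton_X₂ hS
  have a0 := (LinearEquiv.ofInjective (CohLin.overLin R (CohLin.hMap S.f 0))
    (EulerLES.hMap_zero_injective hS)).length_eq
  have b0 := length_exact (EulerLES.exact_f_g hS R 0)
  have c0 := length_exact (EulerLES.exact_g_δ hS R 0)
  have a1 := length_exact (EulerLES.exact_δ_f hS R 0)
  have b1 := length_exact (EulerLES.exact_f_g hS R 1)
  have c1 := length_exact (EulerLES.exact_g_δ hS R 1)
  haveI : Subsingleton (LinearMap.range (CohLin.overLin R (CohLin.hδ hS 1))) :=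
    haveI : Subsingleton (Coh.HH X.left S.X₁ (1 + 1)) := h₁.2 2 le_rfl
    Subtype.val_injective.subsingleton
  rw [Module.length_eq_zero (R := R) (M := LinearMap.range (CohLin.overLin R (CohLin.hδ hS 1))),
    add_zero] at c1
  obtain ⟨la0, ea0⟩ := ENat.ne_top_iff_exists.mp (h₁.1 0)
  obtain ⟨la1, ea1⟩ := ENat.ne_top_iff_exists.mp (h₁.1 1)
  obtain ⟨lc0, ec0⟩ := ENat.ne_top_iff_exists.mp (h₃.1 0)
  obtain ⟨lc1, ec1⟩ := ENat.ne_top_iff_exists.mp (h₃.1 1)
  rw [← ea0] at a0
  rw [← ec0] at c0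
  rw [← ea1] at a1
  rw [← ec1] at c1
  rw [← a0] at b0
  rw [← c1] at b1
  have hg0 : Module.length R (LinearMap.range (CohLin.overLin R (CohLin.hMap S.g 0))) ≠ ⊤ :=
    fun h => by rw [h, top_add] at c0; exact ENat.coe_ne_top _ c0
  have hd0 : Module.length R (LinearMap.range (CohLin.overLin R (CohLin.hδ hS 0))) ≠ ⊤ :=
    fun h => by rw [h, add_top] at c0; exact ENat.coe_ne_top _ c0
  have hf1 : Module.length R (LinearMap.range (CohLin.overLin R (CohLin.hMap S.f 1))) ≠ ⊤ :=
    fun h => by rw [h, add_top] at a1; exact ENat.coe_ne_top _ a1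
  obtain ⟨g0, eg0⟩ := ENat.ne_top_iff_exists.mp hg0
  obtain ⟨d0, ed0⟩ := ENat.ne_top_iff_exists.mp hd0
  obtain ⟨f1, ef1⟩ := ENat.ne_top_iff_exists.mp hf1
  rw [← eg0] at b0
  rw [← ef1] at b1
  rw [← eg0, ← ed0] at c0
  rw [← ed0, ← ef1] at a1
  norm_cast at a1 b0 b1 c0
  refine ⟨⟨fun n => ?_, hvan⟩, ?_⟩
  · rcases n with _ | _ | n
    · rw [b0]; exact ENat.coe_ne_top _
    · rw [b1]; exact ENat.coe_ne_top _
    · haveI := hvan (n + 2) (by omega)
      rw [Module.length_eq_zero]; exact ENat.zero_ne_top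
  · simp only [chi, Models.lengthH, b0, b1, ← ea0, ← ea1, ← ec0, ← ec1, ENat.toNat_coe]
    omega

theorem FinLen.of_isZero {F : X.left.Modules} (h : IsZero F) : FinLen F ∧ chi F = 0 := by
  have hs : ∀ n, Subsingleton (Coh.HH X.left F n) := fun n => by
    refine ⟨fun x y => ?_⟩
    rw [← CohLin.hMap_id F n x, ← CohLin.hMap_id F n y, h.eq_of_src (𝟙 F) 0,
      show CohLin.hMap (0 : F ⟶ F) n x = 0 from map_zero (CohLin.hMapHom F F n x),
      show CohLin.hMap (0 : F ⟶ F) n y = 0 from map_zero (CohLin.hMapHom F F n y)]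
  have h0 : ∀ n, Module.length R (Coh.HH X.left F n) = 0 := fun n => by
    haveI := hs n
    exact Module.length_eq_zero
  exact ⟨⟨fun n => h0 n ▸ ENat.zero_ne_top, fun n _ => hs n⟩, by simp [chi, Models.lengthH, h0]⟩

theorem isZero_quotMod_top : IsZero (ClSub.quotMod (⊤ : X.left.IdealSheafData)) := by
  have hs : ∀ x, Subsingleton ((ClSub.quotMod (⊤ : X.left.IdealSheafData)).presheaf.stalk x) := fun x =>
    CycLib.subsingleton_stalk_push_of_not_mem _ (by
      rw [Scheme.IdealSheafData.range_subschemeι]; simp)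
  rw [IsZero.iff_id_eq_zero]
  refine Omega.Stalks.hom_ext_stalk fun x => ?_
  haveI := hs x
  exact LinearMap.ext fun _ => Subsingleton.elim _ _

section Curve

variable [IsProper X.hom] (Γ : ArSurf.VertComp R X)

local notation "k" => IsLocalRing.ResidueField R

omit Γ in
/-- Lengths on the surface of a module from a scheme over the residue field. -/
theorem length_push {Z : Scheme.{u}} [Z.Over (Spec (CommRingCat.of k))]
    [IsProper (Z ↘ Spec (CommRingCat.of k))] (ι : Z ⟶ X.left) [IsAffineHom ι]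
    (hw : ι ≫ X.hom = (Z ↘ Spec (CommRingCat.of k)) ≫ Spec.map (CommRingCat.ofHom (IsLocalRing.residue R)))
    {M : Z.Modules} (hM : Coh.IsCoh M) (n : ℕ) :
    Module.length R (Coh.HH X.left ((Scheme.Modules.pushforward ι).obj M) n) =
      (Module.finrank k (Coh.HH Z M n) : ℕ∞) := by
  haveI : Module.Finite k (Coh.HH Z M n) := EulerChar.finite_HH k _ hM n
  letI ov : Z.Over (Spec (CommRingCat.of R)) := ⟨ι ≫ X.hom⟩
  obtain ⟨e⟩ := EulerChar.nonempty_pushEquiv (A := R) ι rfl M hM.1 n
  let φ : Coh.HH X.left ((Scheme.Modules.pushforward ι).obj M) n →ₛₗ[IsLocalRing.residue R]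
      Coh.HH Z M n :=
    { toFun := e
      map_add' := map_add e
      map_smul' := fun r x => by
        refine (map_smul e r x).trans ?_
        exact congrArg (fun c : Coh.Γtop Z => c • e x)
          ((S7915.toGlobal_square (IsLocalRing.residue R) (𝟙 _) (ι ≫ X.hom) (Z ↘ Spec (CommRingCat.of k))
            (by rw [Category.id_comp]; exact hw) r).trans rfl) }
  haveI : RingHomSurjective (IsLocalRing.residue R) := ⟨IsLocalRing.residue_surjective⟩
  have h : Module.length R (Coh.HH X.left ((Scheme.Modules.pushforward ι).obj M) n) =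
      Module.length k (Coh.HH Z M n) := by
    refine WithBot.coe_injective ?_
    rw [Module.coe_length, Module.coe_length]
    exact Order.krullDim_eq_of_orderIso (Submodule.orderIsoMapComapOfBijective φ e.bijective)
  rw [h, Module.length_eq_finrank]

/-- A coherent module on a vertical curve, seen on the surface. -/
theorem finLen_push {M : Γ.curve.left.Modules} (hM : Coh.IsCoh M) :
    FinLen ((Scheme.Modules.pushforward Γ.ι).obj M) ∧
      chi ((Scheme.Modules.pushforward Γ.ι).obj M) = Curv2.euler k Γ.curve.left M := by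
  have key := length_push (X := X) Γ.ι Γ.w hM
  have hvan : ∀ n, 2 ≤ n → Subsingleton (Coh.HH Γ.curve.left M n) := fun n hn =>
    EulerChar.subsingleton_HH_two_le k Γ.dim_eq M hn
  refine ⟨⟨fun n => by rw [key]; exact ENat.coe_ne_top _, fun n hn => ?_⟩, ?_⟩
  · letI : Γ.curve.left.Over (Spec (CommRingCat.of R)) := ⟨Γ.ι ≫ X.hom⟩
    haveI := hvan n hn
    exact (EulerChar.nonempty_pushEquiv (A := R) Γ.ι rfl M hM.1 n).some.toEquiv.subsingleton
  · simp only [chi, Models.lengthH, key, ENat.toNat_coe]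
    rw [EulerChar.euler_eq_sum k (t := 2) fun n hn => hvan n hn]
    simp [Finset.sum_range_succ, sub_eq_add_neg]

omit Γ in
omit [IsProper X.hom] in
theorem nonempty_quotMod_ker {Z : Scheme.{u}} (ι : Z ⟶ X.left) [IsClosedImmersion ι] :
    Nonempty ((Scheme.Modules.pushforward ι).obj (Coh.structureModule Z) ≅ ClSub.quotMod ι.ker) := by
  haveI : IsIso ι.toImage := inferInstance
  haveI : IsIso ((Scheme.Modules.pullbackPushforwardAdjunction ι.toImage).unit.app
      (Coh.structureModule ι.image)) := by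
    refine (ClUnit.isIso_unit_iff_stalk ι.toImage _).2 ⟨fun z r hr t => ?_, fun x hx => ?_⟩
    · haveI : IsIso (ι.toImage.stalkMap z) := inferInstance
      rw [(ConcreteCategory.bijective_of_isIso (ι.toImage.stalkMap z)).1 (hr.trans (map_zero _).symm),
        zero_smul]
    · exact absurd (ι.toImage.surjective x) hx
  exact ⟨(Scheme.Modules.pushforward ι).mapIso (QCoh.pullbackUnitIso ι.toImage).symm ≪≫
    (Scheme.Modules.pushforwardCongr ι.toImage_imageι.symm).app _ ≪≫
    ((Scheme.Modules.pushforwardComp ι.toImage ι.imageι).app _).symm ≪≫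
    (Scheme.Modules.pushforward ι.imageι).mapIso
      (asIso ((Scheme.Modules.pullbackPushforwardAdjunction ι.toImage).unit.app _)).symm⟩

/-- `χ` of a line bundle restricted to a vertical curve. -/
theorem finLen_restrict {L : X.left.Modules} (hL : PicF.IsInvertible L) :
    FinLen (CohB1.tensorMod L (ClSub.quotMod Γ.ι.ker)) ∧
      chi (CohB1.tensorMod L (ClSub.quotMod Γ.ι.ker)) =
        ArSurf.inter R X L Γ + ((Models.wdeg R X Γ : ℤ) - (Models.h1 R X Γ : ℤ)) := by
  have hc : Coh.IsCoh ((Scheme.Modules.pullback Γ.ι).obj L) :=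
    VBLib.isCoh_of_ofRank (ProjTwist.isFinLocFreeOfRank_one (pullback_invertible Γ hL))
  have e : CohB1.tensorMod L (ClSub.quotMod Γ.ι.ker) ≅
      (Scheme.Modules.pushforward Γ.ι).obj ((Scheme.Modules.pullback Γ.ι).obj L) :=
    ProjTwist.tensCongr (Iso.refl L) (nonempty_quotMod_ker Γ.ι).some.symm ≪≫ EulerChar.tensQuotIso Γ.ι L
  obtain ⟨h1, h2⟩ := finLen_push Γ hc
  refine ⟨h1.of_iso e.symm, ?_⟩
  rw [chi_iso e, h2, inter_eq_deg, Curv2.deg,
    EulerChar.euler_eq_sum k (M := Coh.structureModule Γ.curve.left) (t := 2)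
      fun n hn => EulerChar.subsingleton_HH_two_le k Γ.dim_eq _ hn]
  simp [Finset.sum_range_succ, Models.wdeg, Models.h1, sub_eq_add_neg]
  ring

omit Γ in
/-- `0 ⟶ I ⊗ O/J ⟶ O/IJ ⟶ O/I ⟶ 0` -/
theorem exists_mulShort {I J : X.left.IdealSheafData} (hI : BlowUp.IsEffCartierIdeal I)
    (hJ : BlowUp.IsEffCartierIdeal J) : ∃ S : ShortComplex X.left.Modules, S.ShortExact ∧
      Nonempty (S.X₁ ≅ CohB1.tensorMod (ClSub.idealMod I) (ClSub.quotMod J)) ∧
      Nonempty (S.X₂ ≅ ClSub.quotMod (I * J)) ∧ Nonempty (S.X₃ ≅ ClSub.quotMod I) := by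
  haveI := isLocallyNoetherian_of_proper (R := R) (X := X)
  have hi := IdealSh.IdealMod.isInvertible_of_isEffCartierIdeal I hI
  haveI : (ClSub.idealMod I).IsQuasicoherent := ProjTwist.isQCoh_of_isInvertible hi
  let a := CartFilt.α J (ClSub.idealMod I)
  let b := ClSub.idealModι I
  haveI : Mono a := CartFilt.mono_α hJ _ hi
  haveI : Mono b := inferInstanceAs (Mono (kernel.ι _))
  haveI : Mono (a ≫ b) := mono_comp _ _
  let S := ShortComplex.mk (cokernel.map a (a ≫ b) (𝟙 _) b (Category.id_comp _).symm)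
    (cokernel.map (a ≫ b) b a (𝟙 _) (Category.comp_id _))
    (Cofork.IsColimit.hom_ext (cokernelIsCokernel a) (by simp))
  refine ⟨S, ?_, ⟨CartFilt.cokerαIso J (ClSub.idealMod I)⟩,
    CartFilt.nonempty_cokernel_iso (I * J) (a ≫ b) (rangeEq_mul hI hJ),
    ⟨(cokernelIsCokernel _).coconePointUniqueUpToIso (EulerChar.shortExact_ideal I).gIsCokernel⟩⟩
  have h := kernelCokernelCompSequence_exact a b
  refine { exact := ?_, mono_f := ?_, epi_g := ?_ }
  · exact h.exact 3
  · exact (h.exact 2).mono_g (IsZero.eq_of_src (isZero_kernel_of_mono b) _ _)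
  · exact inferInstanceAs (Epi ((kernelCokernelCompSequence a b).map' 4 5))

/-- Adding a vertical curve to a divisor. -/
theorem chi_add {I : X.left.IdealSheafData} (hI : BlowUp.IsEffCartierIdeal I)
    (hΓ : BlowUp.IsEffCartierIdeal Γ.ι.ker) (h : FinLen (ClSub.quotMod I)) :
    FinLen (ClSub.quotMod (I * Γ.ι.ker)) ∧
      chi (ClSub.quotMod (I * Γ.ι.ker)) = chi (ClSub.quotMod I) +
        (ArSurf.inter R X (ClSub.idealMod I) Γ + ((Models.wdeg R X Γ : ℤ) - (Models.h1 R X Γ : ℤ))) := by
  obtain ⟨S, hS, ⟨e1⟩, ⟨e2⟩, ⟨e3⟩⟩ := exists_mulShort hI hΓ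
  obtain ⟨f1, c1⟩ := finLen_restrict Γ (IdealSh.IdealMod.isInvertible_of_isEffCartierIdeal I hI)
  obtain ⟨f2, c2⟩ := FinLen.of_ext hS (f1.of_iso e1.symm) (h.of_iso e3.symm)
  refine ⟨f2.of_iso e2, ?_⟩
  rw [← chi_iso e2, c2, chi_iso e1, chi_iso e3, c1, add_comm]

end Curve

section List

variable [IsProper X.hom] {n : ℕ} (Γ : Fin n → ArSurf.VertComp R X)
  (hc : ∀ i, BlowUp.IsEffCartierIdeal (Γ i).ι.ker)

/-- The ideal of `∑ aⱼ Γⱼ`. -/
def divIdeal (a : Fin n → ℕ) : X.left.IdealSheafData := ∏ j, (Γ j).ι.ker ^ a j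

omit [IsProper X.hom] in
theorem divIdeal_succ (a : Fin n → ℕ) (i : Fin n) :
    divIdeal Γ (fun j => a j + if j = i then 1 else 0) = divIdeal Γ a * (Γ i).ι.ker := by
  simp only [divIdeal, pow_add, Finset.prod_mul_distrib]
  rw [Finset.prod_eq_single (f := fun x => (Γ x).ι.ker ^ if x = i then 1 else 0) i
    (fun j _ hj => by simp only [if_neg hj, pow_zero]) (by simp)]
  simp

include hc in
theorem isEffCartier_divIdeal (a : Fin n → ℕ) : BlowUp.IsEffCartierIdeal (divIdeal Γ a) := by
  unfold divIdeal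
  refine Finset.prod_induction _ (fun J => BlowUp.IsEffCartierIdeal J)
    (fun I J hI hJ => IdealSh.EffCartier.mul hI hJ)
    (by simpa using IdealSh.EffCartier.pow (IdealSh.EffCartier.top (X := X.left)) 0)
    fun j _ => IdealSh.EffCartier.pow (hc j) _

variable (L : Fin n → X.left.Modules) (hL : ∀ i, ClSub.IsInverseOf (L i) (ClSub.idealMod (Γ i).ι.ker))

include hc hL in
theorem inter_divIdeal (a : Fin n → ℕ) (E : ArSurf.VertComp R X) :
    ArSurf.inter R X (ClSub.idealMod (divIdeal Γ a)) E = -∑ j, (a j : ℤ) * ArSurf.inter R X (L j) E := by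
  rw [divIdeal, (inter_ideal_prod E _ _ fun j => IdealSh.EffCartier.pow (hc j) _).2, ← Finset.sum_neg_distrib]
  refine Finset.sum_congr rfl fun j _ => ?_
  rw [inter_ideal_pow E (hc j)]
  linear_combination (a j : ℤ) * inter_inverse E (hc j) (hL j)

include hc in
theorem finLen_divIdeal (a : Fin n → ℕ) : FinLen (ClSub.quotMod (divIdeal Γ a)) := by
  suffices ∀ N, ∀ a : Fin n → ℕ, ∑ j, a j = N → FinLen (ClSub.quotMod (divIdeal Γ a)) from this _ a rfl
  intro N
  induction N with
  | zero =>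
    intro a ha
    have h : divIdeal Γ a = ⊤ := by
      simp only [Finset.sum_eq_zero_iff, Finset.mem_univ, forall_true_left] at ha
      exact Finset.prod_eq_one fun j _ => by rw [ha j, pow_zero]
    exact h ▸ (FinLen.of_isZero isZero_quotMod_top).1
  | succ N ih =>
    intro a ha
    obtain ⟨i, hi⟩ : ∃ i, 0 < a i := by
      by_contra h
      push Not at h
      simp [fun i => Nat.le_zero.mp (h i)] at ha
    let a' := Function.update a i (a i - 1)
    have e : a = fun j => a' j + if j = i then 1 else 0 := funext fun j => by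
      by_cases h : j = i
      · subst h; simp [a']; omega
      · simp [a', h]
    have ha' : ∑ j, a' j = N := by
      have h1 : ∑ j, (a' j + if j = i then 1 else 0) = N + 1 := by rw [← e]; exact ha
      rw [Finset.sum_add_distrib, Finset.sum_ite_eq'] at h1
      simpa using h1
    rw [e, divIdeal_succ]
    exact (chi_add (Γ i) (isEffCartier_divIdeal Γ hc a') (hc i) (ih a' ha')).1

include hc hL in
/-- `χ(O_{D+Γᵢ}) - χ(O_D)`. -/
theorem chi_divIdeal_succ (a : Fin n → ℕ) (i : Fin n) :
    chi (ClSub.quotMod (divIdeal Γ fun j => a j + if j = i then 1 else 0)) =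
      chi (ClSub.quotMod (divIdeal Γ a)) - (∑ j, (a j : ℤ) * ArSurf.inter R X (L j) (Γ i)) +
        ((Models.wdeg R X (Γ i) : ℤ) - (Models.h1 R X (Γ i) : ℤ)) := by
  rw [divIdeal_succ, (chi_add (Γ i) (isEffCartier_divIdeal Γ hc a) (hc i) (finLen_divIdeal Γ hc a)).2,
    inter_divIdeal Γ hc L hL]
  ring

include hc hL in
/-- The closed formula for `χ` of a vertical divisor. -/
theorem two_mul_chi_divIdeal
    (hs : ∀ i j, ArSurf.inter R X (L j) (Γ i) = ArSurf.inter R X (L i) (Γ j)) (a : Fin n → ℕ) :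
    2 * chi (ClSub.quotMod (divIdeal Γ a)) =
      -(∑ i, ∑ j, (a i : ℤ) * (a j : ℤ) * ArSurf.inter R X (L j) (Γ i)) +
        ∑ i, (a i : ℤ) * (ArSurf.inter R X (L i) (Γ i) +
          2 * ((Models.wdeg R X (Γ i) : ℤ) - (Models.h1 R X (Γ i) : ℤ))) := by
  suffices ∀ N, ∀ a : Fin n → ℕ, ∑ j, a j = N → 2 * chi (ClSub.quotMod (divIdeal Γ a)) =
      -(∑ i, ∑ j, (a i : ℤ) * (a j : ℤ) * ArSurf.inter R X (L j) (Γ i)) +
        ∑ i, (a i : ℤ) * (ArSurf.inter R X (L i) (Γ i) +
          2 * ((Models.wdeg R X (Γ i) : ℤ) - (Models.h1 R X (Γ i) : ℤ))) from this _ a rfl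
  intro N
  induction N with
  | zero =>
    intro a ha
    simp only [Finset.sum_eq_zero_iff, Finset.mem_univ, forall_true_left] at ha
    have h : divIdeal Γ a = ⊤ := Finset.prod_eq_one fun j _ => by rw [ha j, pow_zero]
    rw [h, (FinLen.of_isZero isZero_quotMod_top).2]
    simp [ha]
  | succ N ih =>
    intro a ha
    obtain ⟨i, hi⟩ : ∃ i, 0 < a i := by
      by_contra h
      push Not at h
      simp [fun i => Nat.le_zero.mp (h i)] at ha
    let a' := Function.update a i (a i - 1)
    have e : a = fun j => a' j + if j = i then 1 else 0 := funext fun j => by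
      by_cases h : j = i
      · subst h; simp [a']; omega
      · simp [a', h]
    have ha' : ∑ j, a' j = N := by
      have h1 : ∑ j, (a' j + if j = i then 1 else 0) = N + 1 := by rw [← e]; exact ha
      rw [Finset.sum_add_distrib, Finset.sum_ite_eq'] at h1
      simpa using h1
    rw [e, chi_divIdeal_succ Γ hc L hL]
    have h2 := ih a' ha'
    push_cast
    simp only [add_mul, mul_add, Finset.sum_add_distrib, ite_mul, mul_ite, one_mul, zero_mul, mul_one, mul_zero,
      Finset.sum_ite_eq', Finset.sum_ite_eq, Finset.mem_univ, if_true, Finset.sum_ite_irrel,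
      Finset.sum_const_zero] at h2 ⊢
    have h3 : ∑ j, (a' j : ℤ) * ArSurf.inter R X (L i) (Γ j) = ∑ j, (a' j : ℤ) * ArSurf.inter R X (L j) (Γ i) :=
      Finset.sum_congr rfl fun j _ => by rw [hs i j]
    linarith

end List

end Groth.Agent.VertInter
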