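import Groth.Agent.VertInter.Twist
import Groth.Agent.CartDiv.Difference
import Groth.Agent.ZeroSchemeLib.Basic
import Groth.Agent.CBC.PicDVR
import Groth.Agent.S4341
import Groth.Agent.AffCompl47.Compactify

/-!
# Line bundles trivial on the generic fibre are vertical divisors
-/

set_option autoImplicit false
set_option linter.style.haveILetI false
universe u
open CategoryTheory CategoryTheory.Limits AlgebraicGeometry TopologicalSpace
open Groth.Agent.QCoh Groth.Agent.Props.GenLocus Groth.Agent.Props.GenTensor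

namespace Groth.Agent.VertInter

section ZeroDiv

variable {X : Scheme.{u}}

/-- The zero divisor of a regular section. -/
theorem exists_divisor_of_section {L : X.Modules} (hL : PicF.IsInvertible L)
    (s : Coh.structureModule X ⟶ L) [∀ x : X, IsDomain (X.presheaf.stalk x)]
    (hs : ∀ x : X, ∃ z : X, z ⤳ x ∧ z ∈ CohB1.genLocus L s) :
    ∃ D : X.IdealSheafData, BlowUp.IsEffCartierIdeal D ∧
      Disjoint ((CohB1.genLocus L s : X.Opens) : Set X) (D.support : Set X) ∧ IsInv L D := by
  let D := PicF2.zeroScheme L s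
  have hregr : ∀ (V : X.Opens) (U : X.Opens) (h : V ≤ U) (e : Γ(L, U)), IsGen L U e → ∀ f : Γ(X, U),
      sec s U = f • e → rres h f ∈ nonZeroDivisors Γ(X, V) := by
    intro V U h e he f hf
    refine IdealSh.Regular.mem_nonZeroDivisors_of_germ fun x hx => mem_nonZeroDivisors_of_ne_zero fun h0 => ?_
    rw [show X.presheaf.germ V x hx (rres h f) = X.presheaf.germ U x (h hx) f from
      X.presheaf.germ_res_apply _ x hx f] at h0
    obtain ⟨z, hzx, hz⟩ := hs x
    have hzU : z ∈ U := hzx.mem_open U.isOpen (h hx)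
    have hzb : z ∈ X.basicOpen f := by rw [← genLocus_inf he s hf]; exact ⟨hz, hzU⟩
    have hu := (Scheme.mem_basicOpen _ _ z hzU).mp hzb
    have h2 := congrArg (X.presheaf.stalkSpecializes hzx) h0
    rw [TopCat.Presheaf.germ_stalkSpecializes_apply, map_zero] at h2
    rw [h2] at hu
    exact not_isUnit_zero hu
  have loc : ∀ x : X, ∃ (U : X.affineOpens) (e : Γ(L, U.1)) (f : Γ(X, U.1)) (σ : Γ(ClSub.idealMod D, U.1)),
      x ∈ U.1 ∧ IsGen L U.1 e ∧ sec s U.1 = f • e ∧ IsGen (ClSub.idealMod D) U.1 σ ∧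
      OmegaSh.idealSect D U.1 σ = f ∧ f ∈ nonZeroDivisors Γ(X, U.1) ∧ D.ideal U = Ideal.span {f} := by
    intro x
    obtain ⟨W, e0, hxW, he0⟩ := exists_isGen hL x
    obtain ⟨U, hU, hxU, hle⟩ := exists_isAffineOpen_mem_and_subset (show x ∈ W from hxW)
    have he := he0.restrict hle
    obtain ⟨f, hf, -⟩ := he.exists_eq (le_refl U) (sec s U)
    rw [res_self] at hf
    have hid := ZeroSchemeLib.zeroScheme_ideal_eq_span hL s ⟨U, hU⟩ he (f := f) hf
    have hnz : f ∈ nonZeroDivisors Γ(X, U) := by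
      have := hregr U U le_rfl _ he f hf
      rwa [show rres (le_refl U) f = f from by simp [rres]] at this
    obtain ⟨σ, hσ, hσf⟩ := CartDiv.Difference.exists_isGen_ideal D (U := ⟨U, hU⟩) hnz hid
    exact ⟨⟨U, hU⟩, _, f, σ, hxU, he, hf, hσ, hσf, hnz, hid⟩
  choose U e f σ hxU he hf hσ hσf hnz hid using loc
  have hD : BlowUp.IsEffCartierIdeal D := fun x => ⟨U x, hxU x, f x, hnz x, hid x⟩
  refine ⟨D, hD, ?_, hL, ?_⟩
  · rw [AffCompl47.support_zeroScheme hL s]
    exact disjoint_compl_right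
  refine PicLaw.nonempty_iso_of_transition (fun x => (U x).1) (fun x => ⟨x, hxU x⟩)
    (fun x => tmul (e x) (σ x)) (fun x => isGen_tmul (he x) (hσ x))
    (fun x => one' (U x).1) (fun x => CartFilt.isGen_one _) ?_
  intro i j V hi hj
  obtain ⟨c, hc, -⟩ := (he i).exists_eq hi (res L hj (e j))
  obtain ⟨d, hd, -⟩ := (hσ i).exists_eq hi (res (ClSub.idealMod D) hj (σ j))
  have h1 : rres hi (f i) = rres hj (f j) * c := by
    refine (he i).injective hi ?_
    rw [← res_smul, ← hf i, sec_res, ← sec_res s hj, hf j, res_smul, hc, smul_smul]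
  have h2 : rres hj (f j) = d * rres hi (f i) := by
    have h := congrArg (OmegaSh.idealSect D V) hd
    rw [Omega.Stalks.idealSect_smul] at h
    rw [show OmegaSh.idealSect D V (res (ClSub.idealMod D) hj (σ j)) =
        rres hj (OmegaSh.idealSect D (U j).1 (σ j)) from Omega.Stalks.idealSect_map D _ _,
      show OmegaSh.idealSect D V (res (ClSub.idealMod D) hi (σ i)) =
        rres hi (OmegaSh.idealSect D (U i).1 (σ i)) from Omega.Stalks.idealSect_map D _ _, hσf, hσf] at h
    exact h
  have hcd : c * d = 1 := by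
    have hn := hregr V (U i).1 hi _ (he i) (f i) (hf i)
    refine ((mul_cancel_right_mem_nonZeroDivisors hn).mp ?_)
    rw [one_mul]
    calc c * d * rres hi (f i) = rres hj (f j) * c := by rw [h2]; ring
      _ = _ := h1.symm
  refine ⟨1, ?_, ?_⟩
  · rw [res_tmul, res_tmul, hc, hd, tmul_smul_left, tmul_smul_right, smul_smul, hcd]
  · rw [one_smul, PicLaw.res_one', PicLaw.res_one']

end ZeroDiv

variable {R : Type u} [CommRing R] [IsDomain R] [IsDiscreteValuationRing R]

/-- An effective divisor inside the closed fibre is a combination of the components. -/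
theorem exists_exponents {Y : Scheme.{u}} {p : Y ⟶ Spec (CommRingCat.of R)} [IsProper p] [Flat p]
    (hreg : Models.IsRegularScheme Y) {n : ℕ} {Δ : Fin n → ArSurf.VertComp R (Over.mk p)}
    (hΔ : Models.IsComponentList R (Over.mk p) Δ) {D : (Over.mk p).left.IdealSheafData}
    (hD : BlowUp.IsEffCartierIdeal D)
    (hsupp : (D.support : Set (Over.mk p).left) ⊆ Models.specialFibreSet R (Over.mk p)) :
    ∃ b : Fin n → ℕ, D = ∏ i, (Δ i).ι.ker ^ b i := by
  haveI : Flat (Over.mk p).hom := ‹Flat p›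
  haveI : IsLocallyNoetherian (Over.mk p).left := LocallyOfFiniteType.isLocallyNoetherian p
  haveI : ∀ x : (Over.mk p).left, IsDomain ((Over.mk p).left.presheaf.stalk x) := fun x =>
    haveI : IsRegularLocalRing ((Over.mk p).left.presheaf.stalk x) := hreg x
    RegLoc.isDomain _
  haveI : ∀ x : (Over.mk p).left, UniqueFactorizationMonoid ((Over.mk p).left.presheaf.stalk x) := fun x =>
    haveI : IsRegularLocalRing ((Over.mk p).left.presheaf.stalk x) := hreg x
    RegLoc.UFD.uniqueFactorizationMonoid _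
  obtain ⟨ϖ, hϖ⟩ := IsDiscreteValuationRing.exists_irreducible R
  let ξ := fun i => Models.genPtOf R (Over.mk p) (Δ i)
  have loc : ∀ (x : (Over.mk p).left), ∃ g : (Over.mk p).left.presheaf.stalk x, g ≠ 0 ∧
      IntMult.stalkIdeal D x = Ideal.span {g} ∧ ∀ z (h : z ⤳ x), IntMult.stalkIdeal D z =
        Ideal.span {(Over.mk p).left.presheaf.stalkSpecializes h g} := by
    intro x
    obtain ⟨U, hxU, f, hf, hid⟩ := hD x
    refine ⟨_, nonZeroDivisors.ne_zero (IdealSh.Regular.germ_mem_nonZeroDivisors U.2 x hxU hf), ?_, fun z h => ?_⟩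
    · rw [IdealSh.stalkIdeal_eq _ U hxU, hid, Ideal.map_span, Set.image_singleton]
    · rw [TopCat.Presheaf.germ_stalkSpecializes_apply,
        IdealSh.stalkIdeal_eq _ U (h.mem_open U.1.isOpen hxU), hid, Ideal.map_span, Set.image_singleton]
  have hb : ∀ i, ∃ (b : ℕ) (a : (Over.mk p).left.presheaf.stalk (ξ i)), Prime a ∧
      IsLocalRing.maximalIdeal _ = Ideal.span {a} ∧ IntMult.stalkIdeal D (ξ i) = Ideal.span {a ^ b} := by
    intro i
    obtain ⟨a, -, ha, haP, -, -, -⟩ := S3313.exists_generator (Over.mk p) hϖ Δ hΔ (ξ i) i specializes_rfl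
    have hm : IsLocalRing.maximalIdeal ((Over.mk p).left.presheaf.stalk (ξ i)) = Ideal.span {a} := by
      rw [← haP]
      refine (CDivLib.map_genPrime (X := (Over.mk p).left) (specializes_rfl (x := ξ i))).symm.trans ?_
      rw [show ((Over.mk p).left.presheaf.stalkSpecializes (specializes_rfl (x := ξ i))) = 𝟙 _ from
        TopCat.Presheaf.stalkSpecializes_refl _ _]
      exact Ideal.map_id _
    obtain ⟨g, hg0, hg, -⟩ := loc (ξ i)
    obtain ⟨k, c, hac, rfl⟩ := WfDvdMonoid.max_power_factor hg0 ha.irreducible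
    refine ⟨k, a, ha, hm, hg.trans (Ideal.span_singleton_mul_right_unit (by_contra fun hu => hac ?_) _)⟩
    exact Ideal.mem_span_singleton.mp (hm ▸ (hu : c ∈ IsLocalRing.maximalIdeal _))
  choose b aξ haξ hmξ hbξ using hb
  refine ⟨b, IdealSh.Comap.ext_of_forall_exists _ _ fun x => IdealSh.exists_affine_ideal_eq _ _ x ?_⟩
  classical
  obtain ⟨g, hg0, hgx, hgz⟩ := loc x
  rw [hgx, S3313.stalkIdeal_prod]
  have ha : ∀ i, ∃ a c, ξ i ⤳ x → Prime a ∧
      IntMult.stalkIdeal (Δ i).ι.ker x = Ideal.span {a} ∧ ¬ a ∣ c ∧ g = a ^ b i * c := fun i => by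
    by_cases h : ξ i ⤳ x
    · obtain ⟨a, -, h1, h2, -, -, -⟩ := S3313.exists_generator (Over.mk p) hϖ Δ hΔ x i h
      obtain ⟨k, c, hac, hc⟩ := WfDvdMonoid.max_power_factor hg0 h1.irreducible
      let φ := ((Over.mk p).left.presheaf.stalkSpecializes h).hom
      have hm : IsLocalRing.maximalIdeal _ = Ideal.span {φ a} := by
        rw [← CDivLib.map_genPrime h, h2, Ideal.map_span, Set.image_singleton]
      have hcu : IsUnit (φ c) := by_contra fun hu =>
        hac (Ideal.mem_span_singleton.mp (h2 ▸ (hu : c ∈ CDivLib.genPrime h)))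
      have hk : k = b i := by
        have e1 : Ideal.span {φ g} = Ideal.span {aξ i ^ b i} := (hgz (ξ i) h).symm.trans (hbξ i)
        rw [hc, map_mul, map_pow, Ideal.span_singleton_mul_right_unit hcu, ← Ideal.span_singleton_pow,
          ← hm, hmξ i, Ideal.span_singleton_pow, Ideal.span_singleton_eq_span_singleton] at e1
        have hd1 := (pow_dvd_pow_iff (haξ i).ne_zero (haξ i).not_unit).mp e1.dvd
        have hd2 := (pow_dvd_pow_iff (haξ i).ne_zero (haξ i).not_unit).mp e1.symm.dvd
        omega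
      exact ⟨a, c, fun _ => ⟨h1, (S3313.stalkIdeal_ker (Δ i).ι h).trans h2, hac, hk ▸ hc⟩⟩
    · exact ⟨1, 1, fun h' => absurd h' h⟩
  choose a c hac using ha
  let s := Finset.univ.filter fun i => ξ i ⤳ x
  rw [← Finset.prod_subset (Finset.subset_univ s) fun i _ hi => by
    rw [IdealSh.stalkIdeal_pow, S3313.stalkIdeal_ker_eq_top (Δ i).ι (by
        change ¬ ξ i ⤳ x
        simpa [s] using hi), ← Ideal.one_eq_top, one_pow]]
  have hs : ∀ i ∈ s, ξ i ⤳ x := fun i hi => by simpa [s] using hi
  rw [Finset.prod_congr rfl fun i hi => by rw [IdealSh.stalkIdeal_pow, (hac i (hs i hi)).2.1]]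
  refine S3313.span_eq_prod hg0 s a b (fun i hi => (hac i (hs i hi)).1)
    (fun i hi => ⟨c i, (hac i (hs i hi)).2.2⟩) (fun i hi j hj e => ?_) fun q hq hqg => ?_
  · rw [← (hac i (hs i hi)).2.1, ← (hac j (hs j hj)).2.1, S3313.stalkIdeal_ker (Δ i).ι (hs i hi),
      S3313.stalkIdeal_ker (Δ j).ι (hs j hj)] at e
    refine hΔ.1 ?_
    simp only [S3313.range_eq_closure]
    rw [CDivLib.genPrime_injective _ _ e]
  · haveI : (Ideal.span {q}).IsPrime := (Ideal.span_singleton_prime hq.ne_zero).mpr hq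
    obtain ⟨z, hz, hzq⟩ := CDivLib.exists_genPrime_eq (Ideal.span {q})
    have hzD : z ∈ D.support := by
      by_contra hn
      have htop := (IdealSh.stalkIdeal_eq_top_iff D z).mpr hn
      rw [hgz z hz, Ideal.span_singleton_eq_top] at htop
      exact (show g ∈ CDivLib.genPrime hz from hzq ▸ Ideal.mem_span_singleton.mpr hqg) htop
    have hzF := hsupp hzD
    have hqt : q ∣ Models.stalkHom R (Over.mk p) x ϖ := by
      rw [← Ideal.mem_span_singleton, ← hzq]
      show ¬ IsUnit _
      rw [S3313.stalkHom_specializes (Over.mk p) hz]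
      exact (S3313.mem_fibre_iff (Over.mk p) hϖ z).mp hzF
    obtain ⟨z', hz', hz'q, ⟨i, hi⟩, -⟩ := S3313.exists_component_of_prime (Over.mk p) hϖ Δ hΔ x hq hqt
    subst hi
    have his : i ∈ s := by simpa [s] using hz'
    refine ⟨i, his, Ideal.span_singleton_eq_span_singleton.mp ?_⟩
    rw [← hz'q, ← (hac i (hs i his)).2.1]
    exact S3313.stalkIdeal_ker (Δ i).ι hz'

end Groth.Agent.VertInter
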