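import Groth.Agent.VertInter.Arith
import Groth.Agent.VertInter.Section
import Groth.Agent.VertInter.Euler
import Groth.Agent.LimTop.StalkHom

/-!
# The intersection form on some of the components of a closed fibre
-/

set_option autoImplicit false
set_option linter.style.haveILetI false
universe u
open CategoryTheory CategoryTheory.Limits AlgebraicGeometry TopologicalSpace
open Groth.Agent.QCoh Groth.Agent.Props.GenLocus Groth.Agent.PullStalk.Exact Groth.Agent.PullStalk.Sky

namespace Groth.Agent.VertInter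

variable {R : Type u} [CommRing R] [IsDomain R] [IsDiscreteValuationRing R]
  {X : Over (Spec (CommRingCat.of R))}

/-- Weights that are numerically non-positive on each curve of a set of vertical prime divisors. -/
theorem exists_weights (hX : ArSurf.IsArithSurface R X) {r : ℕ} (Γ : Fin r → ArSurf.VertComp R X)
    (hinj : Function.Injective fun i => Set.range ((Γ i).ι.base : (Γ i).curve.left → X.left))
    (L : Fin r → X.left.Modules) (hL : ∀ j, ClSub.IsInverseOf (L j) (ClSub.idealMod (Γ j).ι.ker)) :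
    ∃ m : Fin r → ℕ, (∀ i, 1 ≤ m i) ∧ ∀ i, ∑ j, (m j : ℤ) * ArSurf.inter R X (L j) (Γ i) ≤ 0 := by
  classical
  haveI : IsProper X.hom := isProper_of_arith hX
  haveI : Flat X.hom := hX.2.2.2.1
  haveI : IsIntegral X.left := hX.2.1
  haveI : IsLocallyNoetherian X.left := LocallyOfFiniteType.isLocallyNoetherian X.hom
  haveI : ∀ x : X.left, IsDomain (X.left.presheaf.stalk x) := fun x =>
    haveI := hX.1 x
    RegLoc.isDomain _
  haveI : ∀ x : X.left, UniqueFactorizationMonoid (X.left.presheaf.stalk x) := fun x =>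
    haveI := hX.1 x
    RegLoc.UFD.uniqueFactorizationMonoid _
  obtain ⟨ϖ, hϖ⟩ := IsDiscreteValuationRing.exists_irreducible R
  let ξ := fun i => Models.genPtOf R X (Γ i)
  have hc := fun i => isEffCartier_vert hX (Γ i)
  -- equations at a point
  have heqn : ∀ i (x : X.left) (h : ξ i ⤳ x), ∃ q, Prime q ∧ CDivLib.genPrime h = Ideal.span {q} := by
    intro i x h
    obtain ⟨U, hx, f, hf, he⟩ := hc i x
    refine ⟨X.left.presheaf.germ U.1 x hx f, ?_, ?_⟩
    · have h1 : CDivLib.genPrime h = Ideal.span {X.left.presheaf.germ U.1 x hx f} := by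
        refine (S3313.stalkIdeal_ker (Γ i).ι h).symm.trans ?_
        rw [IdealSh.stalkIdeal_eq _ U hx, he, Ideal.map_span, Set.image_singleton]
      haveI := h1 ▸ CDivLib.genPrime_isPrime h
      exact (Ideal.span_singleton_prime
        (nonZeroDivisors.ne_zero (IdealSh.Regular.germ_mem_nonZeroDivisors U.2 x hx hf))).mp this
    · refine (S3313.stalkIdeal_ker (Γ i).ι h).symm.trans ?_
      rw [IdealSh.stalkIdeal_eq _ U hx, he, Ideal.map_span, Set.image_singleton]
  have hmax : ∀ i, ∃ a, Prime a ∧ IsLocalRing.maximalIdeal (X.left.presheaf.stalk (ξ i)) = Ideal.span {a} := by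
    intro i
    obtain ⟨a, ha, hga⟩ := heqn i (ξ i) specializes_rfl
    refine ⟨a, ha, ?_⟩
    rw [← hga]
    refine (CDivLib.map_genPrime (X := X.left) (specializes_rfl (x := ξ i))).symm.trans ?_
    rw [show (X.left.presheaf.stalkSpecializes (specializes_rfl (x := ξ i))) = 𝟙 _ from
      TopCat.Presheaf.stalkSpecializes_refl _ _]
    exact Ideal.map_id _
  choose a ha hmaxa using hmax
  -- multiplicities
  have hm : ∀ i, ∃ k u, 1 ≤ k ∧ IsUnit u ∧ Models.stalkHom R X (ξ i) ϖ = a i ^ k * u := by
    intro i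
    obtain ⟨k, c, hac, hcc⟩ := WfDvdMonoid.max_power_factor (S3313.stalkHom_ne_zero X hϖ (ξ i)) (ha i).irreducible
    have hu : IsUnit c := by_contra fun hu =>
      hac (Ideal.mem_span_singleton.mp (hmaxa i ▸ (hu : c ∈ IsLocalRing.maximalIdeal _)))
    refine ⟨k, c, Nat.pos_of_ne_zero fun hk => ?_, hu, hcc⟩
    subst hk
    rw [pow_zero, one_mul] at hcc
    exact (S3313.mem_fibre_iff X hϖ (ξ i)).mp ((mem_fibreComponents hX (Γ i)).1.2 ⟨_, rfl⟩) (hcc ▸ hu)
  choose m u hm1 hu hmu using hm
  refine ⟨m, hm1, ?_⟩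
  set J := divIdeal Γ m with hJdef
  have hJ := isEffCartier_divIdeal Γ hc m
  -- the stalks of `J` divide `ϖ`
  have hdiv : ∀ x, ∃ b, IntMult.stalkIdeal J x = Ideal.span {b} ∧ b ∣ Models.stalkHom R X x ϖ := by
    intro x
    have hq : ∀ j, ∃ q, IntMult.stalkIdeal (Γ j).ι.ker x = Ideal.span {q} ∧
        (¬ ξ j ⤳ x → q = 1) ∧ (ξ j ⤳ x → Prime q) ∧ q ^ m j ∣ Models.stalkHom R X x ϖ := by
      intro j
      by_cases h : ξ j ⤳ x
      · obtain ⟨q, hq, hgq⟩ := heqn j x h
        refine ⟨q, (S3313.stalkIdeal_ker (Γ j).ι h).trans hgq, fun h' => absurd h h', fun _ => hq, ?_⟩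
        obtain ⟨k, c, hqc, hcc⟩ := WfDvdMonoid.max_power_factor (S3313.stalkHom_ne_zero X hϖ x) hq.irreducible
        let φ := (X.left.presheaf.stalkSpecializes h).hom
        have hφ : IsLocalRing.maximalIdeal _ = Ideal.span {φ q} := by
          rw [← CDivLib.map_genPrime h, hgq, Ideal.map_span, Set.image_singleton]
        have hcu : IsUnit (φ c) := by_contra fun hu =>
          hqc (Ideal.mem_span_singleton.mp (hgq ▸ (hu : c ∈ CDivLib.genPrime h)))
        have h1 : φ (Models.stalkHom R X x ϖ) = Models.stalkHom R X (ξ j) ϖ := S3313.stalkHom_specializes X h ϖ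
        have e1 : Ideal.span {φ q} ^ k = Ideal.span {a j} ^ m j := by
          rw [Ideal.span_singleton_pow, Ideal.span_singleton_pow,
            ← Ideal.span_singleton_mul_right_unit hcu (φ q ^ k), ← map_pow, ← map_mul, ← hcc, h1, hmu j,
            Ideal.span_singleton_mul_right_unit (hu j)]
        rw [← hφ, hmaxa j, Ideal.span_singleton_pow, Ideal.span_singleton_pow,
          Ideal.span_singleton_eq_span_singleton] at e1
        have hd := (pow_dvd_pow_iff (ha j).ne_zero (ha j).not_isUnit).mp e1.symm.dvd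
        rw [hcc]
        exact (pow_dvd_pow q hd).mul_right c
      · exact ⟨1, (S3313.stalkIdeal_ker_eq_top (Γ j).ι h).trans (by simp), fun _ => rfl,
          fun h' => absurd h' h, by simp⟩
    choose q hq1 hq2 hq3 hq4 using hq
    refine ⟨∏ j, q j ^ m j, ?_, Finset.prod_dvd_of_isRelPrime (fun i _ j _ hij => ?_) fun j _ => hq4 j⟩
    · rw [hJdef, divIdeal, S3313.stalkIdeal_prod, ← Ideal.prod_span_singleton]
      exact Finset.prod_congr rfl fun j _ => by rw [IdealSh.stalkIdeal_pow, hq1, Ideal.span_singleton_pow]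
    · by_cases hi : ξ i ⤳ x
      · by_cases hj : ξ j ⤳ x
        · refine IsRelPrime.pow ((hq3 i hi).irreducible.isRelPrime_iff_not_dvd.mpr fun hd => hij (hinj ?_))
          have e : CDivLib.genPrime hi = CDivLib.genPrime hj := by
            refine (S3313.stalkIdeal_ker (Γ i).ι hi).symm.trans (Eq.trans ?_ (S3313.stalkIdeal_ker (Γ j).ι hj))
            rw [hq1, hq1, Ideal.span_singleton_eq_span_singleton]
            exact (hq3 i hi).associated_of_dvd (hq3 j hj) hd
          simp only [S3313.range_eq_closure]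
          exact congrArg (fun w => closure {w}) (CDivLib.genPrime_injective hi hj e)
        · show IsRelPrime (q i ^ m i) (q j ^ m j)
          rw [hq2 j hj, one_pow]
          exact isRelPrime_one_right
      · show IsRelPrime (q i ^ m i) (q j ^ m j)
        rw [hq2 i hi, one_pow]
        exact isRelPrime_one_left
  -- the section `ϖ` of the ideal
  let t : Γ(X.left, ⊤) := Coh.toGlobal X.hom ϖ
  have ht : J.subschemeι.app ⊤ t = 0 := by
    refine Groth.Agent.LimTop.stalk_ext (ClSub.quotMod J) ((ClSub.toSubscheme J).app ⊤ t) 0 fun x _ => ?_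
    obtain ⟨b, hb, hbt⟩ := hdiv x
    obtain ⟨U, hx, g, hg, he⟩ := hJ x
    rw [IdealSh.stalkIdeal_eq _ U hx, he, Ideal.map_span, Set.image_singleton,
      Ideal.span_singleton_eq_span_singleton] at hb
    obtain ⟨c, hc'⟩ := hb.dvd.trans hbt
    refine Eq.trans ?_ ((ClSub.quotMod J).presheaf.germ ⊤ x trivial).hom.map_zero.symm
    refine (stalkLin_germ (ClSub.toSubscheme J) ⊤ x trivial t).symm.trans ?_
    have h1 : germM (Coh.structureModule X.left) ⊤ x trivial t =
        c • germM (Coh.structureModule X.left) U.1 x hx g := by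
      have e1 : ∀ (V : X.left.Opens) (hV : x ∈ V) (z : Γ(X.left, V)),
          germM (Coh.structureModule X.left) V x hV z =
            X.left.presheaf.germ V x hV z • germM (Coh.structureModule X.left) V x hV (Groth.Agent.Props.GenLocus.one' V) :=
        fun V hV z => by
          rw [← germM_smul]
          exact congrArg (germM (Coh.structureModule X.left) V x hV) (mul_one z).symm
      rw [e1 ⊤ trivial t, e1 U.1 hx g, smul_smul]
      rw [show germM (Coh.structureModule X.left) U.1 x hx (Groth.Agent.Props.GenLocus.one' U.1) =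
        germM (Coh.structureModule X.left) ⊤ x trivial (Groth.Agent.Props.GenLocus.one' ⊤) from by
          rw [← AssSch.Stalk.germM_res (Coh.structureModule X.left) (le_top : U.1 ≤ ⊤) x hx (Groth.Agent.Props.GenLocus.one' ⊤)]
          exact congrArg _ (PicLaw.res_one' _).symm]
      refine congrArg (· • _) ?_
      rw [show X.left.presheaf.germ ⊤ x trivial t = Models.stalkHom R X x ϖ from rfl, hc', mul_comm]
    rw [h1, map_smul]
    refine Eq.trans (congrArg (c • ·) ?_) (smul_zero c)
    refine (stalkLin_germ (ClSub.toSubscheme J) U.1 x hx g).trans ?_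
    refine Eq.trans (congrArg (fun w => germM (ClSub.quotMod J) U.1 x hx w) ?_) (map_zero _)
    exact (IdealSh.IdealMod.mem_ideal_iff J U g).mp (he ▸ Ideal.mem_span_singleton_self g)
  obtain ⟨σ, hσ⟩ := IdealSh.IdealMod.exists_sect J ⊤ t ht
  let s := homOfSec (L := ClSub.idealMod J) σ
  -- where it generates
  have hgen : ∀ z : X.left, (∀ g c : X.left.presheaf.stalk z, IntMult.stalkIdeal J z = Ideal.span {g} →
      Models.stalkHom R X z ϖ = c * g → IsUnit c) → z ∈ CohB1.genLocus (ClSub.idealMod J) s := by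
    intro z hz
    obtain ⟨U, hzU, g, hg, he⟩ := hJ z
    obtain ⟨e, hge, heg⟩ := CartFilt.exists_gen (I := J) (U := U) ⟨hg, he⟩
    obtain ⟨c, hce, -⟩ := hge.exists_eq le_rfl (sec s U.1)
    rw [res_self] at hce
    have hk : rres (le_top : U.1 ≤ ⊤) t = c * g := by
      have h1 := congrArg ((ClSub.idealModι J).app U.1) hce
      rw [sec_homOfSec, Scheme.Modules.Hom.app_smul] at h1
      refine Eq.trans ?_ (h1.trans (congrArg (fun w : Γ(X.left, U.1) => c * w) heg))
      refine Eq.trans ?_ (app_res (ClSub.idealModι J) (le_top : U.1 ≤ ⊤) σ).symm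
      exact congrArg (fun w : Γ(X.left, ⊤) => rres (le_top : U.1 ≤ ⊤) w) hσ.symm
    have hu' := hz (X.left.presheaf.germ U.1 z hzU g) (X.left.presheaf.germ U.1 z hzU c)
      (by rw [IdealSh.stalkIdeal_eq _ U hzU, he, Ideal.map_span, Set.image_singleton])
      (by rw [← map_mul, ← hk]; exact (X.left.presheaf.germ_res_apply _ z hzU t).symm)
    have hb : z ∈ X.left.basicOpen c := (Scheme.mem_basicOpen _ _ z hzU).mpr hu'
    rw [← genLocus_inf hge s hce] at hb
    exact hb.1
  have hη : ∀ x : X.left, ∃ z, z ⤳ x ∧ z ∈ CohB1.genLocus (ClSub.idealMod J) s := fun x =>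
    ⟨genericPoint X.left, genericPoint_specializes x, hgen _ fun g c _ hgc =>
      (isUnit_iff_ne_zero (G₀ := X.left.functionField)).mpr fun h0 => by
        rw [show c = 0 from h0, zero_mul] at hgc
        exact S3313.stalkHom_ne_zero X hϖ _ hgc⟩
  obtain ⟨D, hD, hdisj, -, hinv⟩ := exists_divisor_of_section
    (IdealSh.IdealMod.isInvertible_of_isEffCartierIdeal J hJ) s hη
  intro i
  have hξ : ξ i ∈ CohB1.genLocus (ClSub.idealMod J) s := hgen _ fun g c hg hgc => by
    have hst : IntMult.stalkIdeal J (ξ i) = Ideal.span {a i ^ m i} := by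
      rw [hJdef, divIdeal, S3313.stalkIdeal_prod, Finset.prod_eq_single i]
      · rw [IdealSh.stalkIdeal_pow, ← Ideal.span_singleton_pow, ← hmaxa i]
        congr 1
        refine (S3313.stalkIdeal_ker (Γ i).ι (specializes_rfl (x := ξ i))).trans ?_
        refine Eq.trans ?_ (CDivLib.map_genPrime (X := X.left) (specializes_rfl (x := ξ i)))
        rw [show (X.left.presheaf.stalkSpecializes (specializes_rfl (x := ξ i))) = 𝟙 _ from
          TopCat.Presheaf.stalkSpecializes_refl _ _]
        exact (Ideal.map_id _).symm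
      · intro j _ hji
        rw [IdealSh.stalkIdeal_pow, S3313.stalkIdeal_ker_eq_top (Γ j).ι (fun h =>
          genPt_not_mem_of_ne hX (Γ i) (Γ j) (fun e => hji (hinj e.symm)) (by
            rw [S3313.range_eq_closure (Γ j).ι]; exact specializes_iff_mem_closure.mp h)), ← Ideal.one_eq_top, one_pow]
      · simp
    rw [hst, Ideal.span_singleton_eq_span_singleton] at hg
    obtain ⟨v, rfl⟩ := hg
    rw [hmu i, ← mul_assoc, mul_comm c, mul_assoc] at hgc
    have h2 := mul_left_cancel₀ (pow_ne_zero _ (ha i).ne_zero) hgc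
    exact isUnit_of_mul_isUnit_left (h2 ▸ hu i)
  have h := (inter_nonneg (Γ i) hD (Set.disjoint_left.mp hdisj hξ) (L := ClSub.idealMod J) hinv).1
  rw [hJdef, inter_divIdeal Γ hc L hL] at h
  linarith

end Groth.Agent.VertInter
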