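import Groth.Agent.VertInter.Comp

/-!
# Intersection numbers of the components of the closed fibre
-/

set_option autoImplicit false
set_option linter.style.haveILetI false
universe u
open CategoryTheory CategoryTheory.Limits AlgebraicGeometry TopologicalSpace

namespace Groth.Agent.VertInter

variable {R : Type u} [CommRing R] [IsDomain R] [IsDiscreteValuationRing R]
  {Y : Scheme.{u}} {p : Y ⟶ Spec (CommRingCat.of R)} {n : ℕ}
  {Δ : Fin n → ArSurf.VertComp R (Over.mk p)} (hΔ : Models.IsComponentList R (Over.mk p) Δ)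

include hΔ in
theorem genPt_not_mem {i j : Fin n} (hij : i ≠ j) :
    Models.genPtOf R (Over.mk p) (Δ i) ∉ Set.range (Δ j).ι.base := by
  intro h
  have hle : Set.range (Δ i).ι.base ⊆ Set.range (Δ j).ι.base := by
    rw [S3313.range_eq_closure (Δ i).ι]
    exact closure_minimal (Set.singleton_subset_iff.mpr h) (Δ j).ι.isClosedEmbedding.isClosed_range
  have hi : Set.range (Δ i).ι.base ∈ Models.fibreComponents R (Over.mk p) := hΔ.2 ▸ ⟨i, rfl⟩
  have hj : Set.range (Δ j).ι.base ∈ Models.fibreComponents R (Over.mk p) := hΔ.2 ▸ ⟨j, rfl⟩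
  exact hij (hΔ.1 (le_antisymm hle (hi.2 hj.1 hle)))

include hΔ in
theorem not_mem_support {i j : Fin n} (hij : i ≠ j) :
    Models.genPtOf R (Over.mk p) (Δ i) ∉ ((Δ j).ι.ker.support : Set (Over.mk p).left) := by
  rw [Scheme.Hom.support_ker, (Δ j).ι.isClosedEmbedding.isClosed_range.closure_eq]
  exact genPt_not_mem hΔ hij

variable [IsProper p] [Flat p] (hreg : Models.IsRegularScheme Y) (L : Fin n → Y.Modules)
  (hL : ∀ i, ClSub.IsInverseOf (L i) (ClSub.idealMod (Δ i).ι.ker))

include hΔ hreg hL in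
theorem inter_symm_list (i j : Fin n) :
    ArSurf.inter R (Over.mk p) (L j) (Δ i) = ArSurf.inter R (Over.mk p) (L i) (Δ j) := by
  haveI : IsProper (Over.mk p).hom := ‹IsProper p›
  by_cases hij : i = j
  · rw [hij]
  have hc := (S3313.eq_prod p ‹Flat p› inferInstance hreg Δ hΔ).1
  exact inter_symm (Δ i) (Δ j) (hc i) (hc j) (genPt_not_mem hΔ hij) (genPt_not_mem hΔ (Ne.symm hij))
    (hL i) (hL j)

include hΔ hreg hL in
theorem inter_offDiag {i j : Fin n} (hij : i ≠ j) :
    0 ≤ ArSurf.inter R (Over.mk p) (L j) (Δ i) ∧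
      (ArSurf.inter R (Over.mk p) (L j) (Δ i) = 0 ↔
        Disjoint (Set.range (Δ i).ι.base) (Set.range (Δ j).ι.base)) := by
  haveI : IsProper (Over.mk p).hom := ‹IsProper p›
  have hc := (S3313.eq_prod p ‹Flat p› inferInstance hreg Δ hΔ).1
  have h := inter_nonneg (Δ i) (hc j) (not_mem_support hΔ hij) (hL j)
  rwa [Scheme.Hom.support_ker, (Δ j).ι.isClosedEmbedding.isClosed_range.closure_eq] at h

include hΔ in
theorem iUnion_range_eq [CompactSpace Y] [IsLocallyNoetherian Y] :
    ⋃ i, Set.range (Δ i).ι.base = Models.specialFibreSet R (Over.mk p) := by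
  refine subset_antisymm (Set.iUnion_subset fun i => ?_) fun x hx => ?_
  · exact (show Set.range (Δ i).ι.base ∈ Models.fibreComponents R (Over.mk p) from hΔ.2 ▸ ⟨i, rfl⟩).1.2
  haveI : AlgebraicGeometry.IsNoetherian Y := {}
  have hcl := Models.isClosed_specialFibreSet R (Over.mk p)
  haveI : NoetherianSpace ↥(Models.specialFibreSet R (Over.mk p)) :=
    (inferInstance : NoetherianSpace Y).set _
  have hZ : irreducibleComponent (⟨x, hx⟩ : ↥(Models.specialFibreSet R (Over.mk p))) ∈
      irreducibleComponents ↥(Models.specialFibreSet R (Over.mk p)) :=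
    irreducibleComponent_mem_irreducibleComponents _
  have hmem : Subtype.val '' irreducibleComponent (⟨x, hx⟩ : ↥(Models.specialFibreSet R (Over.mk p))) ∈
      Models.fibreComponents R (Over.mk p) := by
    refine ⟨⟨hZ.1.image _ continuous_subtype_val.continuousOn, ?_⟩, ?_⟩
    · rintro _ ⟨⟨y, hy⟩, -, rfl⟩; exact hy
    · rintro S ⟨hS, hSF⟩ hle
      obtain ⟨w, hw⟩ : ∃ w, IsGenericPoint w (closure S) := ⟨_, hS.isGenericPoint_genericPoint_closure⟩
      have hwF : w ∈ Models.specialFibreSet R (Over.mk p) := closure_minimal hSF hcl hw.mem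
      have h1 : irreducibleComponent (⟨x, hx⟩ : ↥(Models.specialFibreSet R (Over.mk p))) ⊆
          closure {⟨w, hwF⟩} := fun y hy => by
        rw [closure_subtype, Set.image_singleton, hw.def]
        exact subset_closure (hle ⟨y, hy, rfl⟩)
      have h2 := hZ.2 isIrreducible_singleton.closure h1
      intro s hs
      refine ⟨⟨s, hSF hs⟩, h2 ?_, rfl⟩
      rw [closure_subtype, Set.image_singleton, hw.def]
      exact subset_closure hs
  obtain ⟨i, hi⟩ := hΔ.2.symm ▸ hmem
  refine Set.mem_iUnion.mpr ⟨i, ?_⟩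
  change Set.range (Δ i).ι.base = _ at hi
  rw [hi]
  exact ⟨⟨x, hx⟩, mem_irreducibleComponent, rfl⟩

include hΔ hreg hL in
/-- A connected closed fibre gives a connected intersection graph. -/
theorem inter_connected (hconn : _root_.IsPreconnected (Models.specialFibreSet R (Over.mk p)))
    (I : Finset (Fin n)) (hI : I.Nonempty) (hI' : I ≠ Finset.univ) :
    ∃ i ∈ I, ∃ j ∉ I, ArSurf.inter R (Over.mk p) (L j) (Δ i) ≠ 0 := by
  haveI : CompactSpace Y := QuasiCompact.compactSpace_of_compactSpace p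
  haveI : IsLocallyNoetherian Y := LocallyOfFiniteType.isLocallyNoetherian p
  obtain ⟨j₀, hj₀⟩ : ∃ j, j ∉ I := by
    by_contra h
    push Not at h
    exact hI' (Finset.eq_univ_of_forall h)
  obtain ⟨i₀, hi₀⟩ := hI
  have hcl : ∀ s : Set (Fin n), IsClosed (⋃ i ∈ s, Set.range (Δ i).ι.base) := fun s =>
    s.toFinite.isClosed_biUnion fun i _ => (Δ i).ι.isClosedEmbedding.isClosed_range
  have hU := iUnion_range_eq hΔ
  obtain ⟨x, -, hx, hx'⟩ := isPreconnected_closed_iff.mp hconn _ _ (hcl (I : Set (Fin n)))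
    (hcl (I : Set (Fin n))ᶜ)
    (by
      rw [← hU]
      intro x hx
      obtain ⟨i, hi⟩ := Set.mem_iUnion.mp hx
      by_cases h : i ∈ I
      · exact Or.inl (Set.mem_biUnion h hi)
      · exact Or.inr (Set.mem_biUnion (show i ∈ (I : Set (Fin n))ᶜ from h) hi))
    ⟨Models.genPtOf R (Over.mk p) (Δ i₀), hU ▸ Set.mem_iUnion.mpr ⟨i₀, Set.mem_range_self _⟩,
      Set.mem_biUnion (Finset.mem_coe.mpr hi₀) ⟨_, rfl⟩⟩
    ⟨Models.genPtOf R (Over.mk p) (Δ j₀), hU ▸ Set.mem_iUnion.mpr ⟨j₀, Set.mem_range_self _⟩,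
      Set.mem_biUnion (show j₀ ∈ (I : Set (Fin n))ᶜ from hj₀) ⟨_, rfl⟩⟩
  simp only [Set.mem_iUnion] at hx hx'
  obtain ⟨i, hi, hxi⟩ := hx
  obtain ⟨j, hj, hxj⟩ := hx'
  have hij : i ≠ j := fun e => hj (e ▸ hi)
  exact ⟨i, hi, j, hj, fun h0 => Set.disjoint_left.mp
    ((inter_offDiag hΔ hreg L hL hij).2.mp h0) hxi hxj⟩

end Groth.Agent.VertInter

namespace Groth.Agent.VertInter

variable {R : Type u} [CommRing R] [IsDomain R] [IsDiscreteValuationRing R]
  {Y : Scheme.{u}} {p : Y ⟶ Spec (CommRingCat.of R)} {n : ℕ}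
  {Δ : Fin n → ArSurf.VertComp R (Over.mk p)} (hΔ : Models.IsComponentList R (Over.mk p) Δ)
  [IsProper p] [Flat p] (hreg : Models.IsRegularScheme Y)

include hΔ hreg in
theorem one_le_mult (i : Fin n) : 1 ≤ Models.mult R (Over.mk p) (Δ i) := by
  haveI : Flat (Over.mk p).hom := ‹Flat p›
  haveI : ∀ x : (Over.mk p).left, IsDomain ((Over.mk p).left.presheaf.stalk x) := fun x =>
    haveI : IsRegularLocalRing ((Over.mk p).left.presheaf.stalk x) := hreg x
    RegLoc.isDomain _
  haveI : ∀ x : (Over.mk p).left, UniqueFactorizationMonoid ((Over.mk p).left.presheaf.stalk x) := fun x =>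
    haveI : IsRegularLocalRing ((Over.mk p).left.presheaf.stalk x) := hreg x
    RegLoc.UFD.uniqueFactorizationMonoid _
  obtain ⟨ϖ, hϖ⟩ := IsDiscreteValuationRing.exists_irreducible R
  obtain ⟨-, -, -, -, -, -, h⟩ := S3313.exists_generator (Over.mk p) hϖ Δ hΔ
    (Models.genPtOf R (Over.mk p) (Δ i)) i specializes_rfl
  exact h

end Groth.Agent.VertInter
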