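import Groth.Agent.S3313
import Groth.Agent.RegLoc.Basic
import Mathlib.AlgebraicGeometry.Stalk

/-!
# The closed point of a section of a regular model
-/

set_option autoImplicit false
set_option linter.style.haveILetI false
universe u
open CategoryTheory CategoryTheory.Limits AlgebraicGeometry IsLocalRing

namespace Groth.Agent.VertInter

variable {R : Type u} [CommRing R] [IsDomain R] [IsDiscreteValuationRing R]
  (X : Over (Spec (CommRingCat.of R))) (σ : Spec (CommRingCat.of R) ⟶ X.left) (hσ : σ ≫ X.hom = 𝟙 _)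

include hσ in
/-- The local ring at the closed point of a section retracts onto `R`. -/
theorem exists_retraction :
    ∃ s : X.left.presheaf.stalk (σ.base (closedPoint R)) →+* R, IsLocalHom s ∧
      ∀ r, s (Models.stalkHom R X (σ.base (closedPoint R)) r) = r := by
  let e := stalkClosedPointIso (CommRingCat.of R)
  refine ⟨e.hom.hom.comp (σ.stalkMap (closedPoint R)).hom, ?_, fun r => ?_⟩
  · haveI : IsLocalHom e.hom.hom := ⟨fun a ha => by
      have h := ha.map e.inv.hom
      rwa [show e.inv.hom (e.hom.hom a) = a from congr($(e.hom_inv_id) a)] at h⟩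
    haveI : IsLocalHom (σ.stalkMap (closedPoint R)).hom :=
      σ.toLRSHom.prop (closedPoint R)
    exact RingHom.isLocalHom_comp _ _
  · change e.hom.hom ((σ.stalkMap (closedPoint R)).hom
      (X.left.presheaf.germ ⊤ _ trivial (Coh.toGlobal X.hom r))) = r
    erw [σ.germ_stalkMap_apply ⊤ (closedPoint R) trivial]
    have h1 : σ.app ⊤ (Coh.toGlobal X.hom r) = (Scheme.ΓSpecIso (CommRingCat.of R)).inv r := by
      exact congr(($hσ).appTop ((Scheme.ΓSpecIso (CommRingCat.of R)).inv r))
    erw [h1]
    have h2 := congr($(germ_stalkClosedPointIso_hom (R := CommRingCat.of R))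
      ((Scheme.ΓSpecIso (CommRingCat.of R)).inv r))
    refine h2.trans ?_
    exact congr($((Scheme.ΓSpecIso (CommRingCat.of R)).inv_hom_id) r)

include hσ in
theorem section_residue_surjective :
    Function.Surjective ((X.left.residue (σ.base (closedPoint R))).hom.comp
      (Models.stalkHom R X (σ.base (closedPoint R)))) := by
  intro y
  obtain ⟨z, rfl⟩ := X.left.residue_surjective _ y
  obtain ⟨s, hs, hr⟩ := exists_retraction X σ hσ
  refine ⟨s z, ?_⟩
  have h : ¬ IsUnit (Models.stalkHom R X (σ.base (closedPoint R)) (s z) - z) := fun hu => by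
    have := hu.map s
    rw [map_sub, hr, sub_self] at this
    exact not_isUnit_zero this
  refine sub_eq_zero.mp ?_
  rw [RingHom.comp_apply, ← map_sub]
  exact (IsLocalRing.residue_eq_zero_iff _).mpr h

include hσ in
theorem section_stalkHom_not_mem_sq {ϖ : R} (hϖ : Irreducible ϖ) :
    Models.stalkHom R X (σ.base (closedPoint R)) ϖ ∈ maximalIdeal _ ∧
      Models.stalkHom R X (σ.base (closedPoint R)) ϖ ∉ maximalIdeal _ ^ 2 := by
  obtain ⟨s, hs, hr⟩ := exists_retraction X σ hσ
  refine ⟨fun hu => hϖ.not_isUnit ?_, fun hmem => ?_⟩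
  · have := hu.map s
    rwa [hr] at this
  · have h1 := Ideal.mem_map_of_mem s hmem
    rw [hr, Ideal.map_pow] at h1
    have h2 : ϖ ∈ maximalIdeal R ^ 2 :=
      Ideal.pow_right_mono ((local_hom_TFAE s).out 0 2 |>.mp hs) 2 h1
    rw [hϖ.maximalIdeal_eq, Ideal.span_singleton_pow, Ideal.mem_span_singleton] at h2
    obtain ⟨c, hc⟩ := h2
    refine hϖ.not_isUnit (.of_mul_eq_one c (mul_left_cancel₀ hϖ.ne_zero ?_))
    rw [mul_one, ← mul_assoc, ← pow_two, ← hc]

include hσ in
/-- The closed fibre is regular at the closed point of a section. -/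
theorem section_regular_quotient [IsLocallyNoetherian X.left]
    (hreg : IsRegularLocalRing (X.left.presheaf.stalk (σ.base (closedPoint R)))) :
    IsRegularLocalRing (X.left.presheaf.stalk (σ.base (closedPoint R)) ⧸
      Ideal.map (Models.stalkHom R X (σ.base (closedPoint R))) (maximalIdeal R)) := by
  obtain ⟨ϖ, hϖ⟩ := IsDiscreteValuationRing.exists_irreducible R
  obtain ⟨n, hn⟩ := RegLoc.exists_natCast_eq_ringKrullDim (X.left.presheaf.stalk (σ.base (closedPoint R)))
  obtain ⟨h1, h2⟩ := section_stalkHom_not_mem_sq X σ hσ hϖ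
  rw [hϖ.maximalIdeal_eq, Ideal.map_span, Set.image_singleton]
  exact (RegLoc.isRegularLocalRing_quotient_span_singleton h1 h2 hn.1).1

include hσ in
theorem section_prime [IsLocallyNoetherian X.left] [Flat X.hom]
    (hreg : IsRegularLocalRing (X.left.presheaf.stalk (σ.base (closedPoint R)))) {ϖ : R} (hϖ : Irreducible ϖ) :
    Prime (Models.stalkHom R X (σ.base (closedPoint R)) ϖ) := by
  haveI : IsDomain (X.left.presheaf.stalk (σ.base (closedPoint R))) := RegLoc.isDomain _
  have h := section_regular_quotient X σ hσ hreg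
  rw [hϖ.maximalIdeal_eq, Ideal.map_span, Set.image_singleton] at h
  haveI := RegLoc.isDomain (X.left.presheaf.stalk (σ.base (closedPoint R)) ⧸
    Ideal.span {Models.stalkHom R X (σ.base (closedPoint R)) ϖ})
  exact (Ideal.span_singleton_prime (S3313.stalkHom_ne_zero X hϖ _)).mp
    ((Ideal.Quotient.isDomain_iff_prime _).mp inferInstance)

include hσ in
/-- The closed point of a section lies on exactly one component, of multiplicity one. -/
theorem section_component [IsLocallyNoetherian X.left] [Flat X.hom]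
    (hreg : ∀ x : X.left, IsRegularLocalRing (X.left.presheaf.stalk x))
    {n : ℕ} (Γ : Fin n → ArSurf.VertComp R X) (hΓ : Models.IsComponentList R X Γ) :
    (∃! i : Fin n, σ.base (closedPoint R) ∈ Set.range (Γ i).ι.base) ∧
      ∀ i : Fin n, σ.base (closedPoint R) ∈ Set.range (Γ i).ι.base → Models.mult R X (Γ i) = 1 := by
  obtain ⟨ϖ, hϖ⟩ := IsDiscreteValuationRing.exists_irreducible R
  haveI : ∀ x : X.left, IsDomain (X.left.presheaf.stalk x) := fun x =>
    haveI := hreg x
    RegLoc.isDomain _
  haveI : ∀ x : X.left, UniqueFactorizationMonoid (X.left.presheaf.stalk x) := fun x =>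
    haveI := hreg x
    RegLoc.UFD.uniqueFactorizationMonoid _
  set x := σ.base (closedPoint R)
  have hp := section_prime X σ hσ (hreg x) hϖ
  obtain ⟨z, hz, hzq, ⟨i, hi⟩, -⟩ := S3313.exists_component_of_prime X hϖ Γ hΓ x hp dvd_rfl
  have hmem : ∀ j, x ∈ Set.range (Γ j).ι.base ↔ Models.genPtOf R X (Γ j) ⤳ x := fun j => by
    rw [S3313.range_eq_closure (Γ j).ι]
    exact specializes_iff_mem_closure.symm
  have key : ∀ j, Models.genPtOf R X (Γ j) ⤳ x → j = i ∧ Models.mult R X (Γ j) = 1 := by
    intro j hj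
    obtain ⟨a, c, ha, hga, hac, hc, h1⟩ := S3313.exists_generator X hϖ Γ hΓ x j hj
    have hassoc : Associated a (Models.stalkHom R X x ϖ) :=
      ha.associated_of_dvd hp (hc ▸ (dvd_pow_self a (by omega)).mul_right c)
    refine ⟨hΓ.1 ?_, ?_⟩
    · simp only [S3313.range_eq_closure]
      have hgi : CDivLib.genPrime hj = CDivLib.genPrime hz := by
        rw [hga, hzq]
        exact Ideal.span_singleton_eq_span_singleton.mpr hassoc
      exact congrArg (fun w => closure {w}) ((CDivLib.genPrime_injective hj hz hgi).trans hi.symm)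
    · by_contra hne
      obtain ⟨m, hm⟩ : ∃ m, Models.mult R X (Γ j) = m + 2 := ⟨Models.mult R X (Γ j) - 2, by omega⟩
      have h2 : a ^ 2 ∣ a := by
        refine dvd_trans ?_ hassoc.symm.dvd
        rw [hc, hm, pow_add]
        exact (dvd_mul_left _ _).mul_right c
      obtain ⟨u, hu⟩ := h2
      refine ha.not_unit (.of_mul_eq_one u (mul_left_cancel₀ ha.ne_zero ?_))
      rw [mul_one, ← mul_assoc, ← pow_two, ← hu]
  refine ⟨⟨i, (hmem i).mpr (hi ▸ hz), fun j hj => (key j ((hmem j).mp hj)).1⟩,
    fun j hj => (key j ((hmem j).mp hj)).2⟩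

end Groth.Agent.VertInter
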