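import Groth.Agent.VertInter.DivField
import Groth.Agent.VertInter.SectionPoint

/-!
# Fields of functions of vertical subschemes with a rational point
-/

set_option autoImplicit false
set_option linter.style.haveILetI false
universe u
open CategoryTheory CategoryTheory.Limits AlgebraicGeometry TopologicalSpace

noncomputable section

namespace Groth.Agent.VertInter

variable {R : Type u} [CommRing R] [IsDomain R] [IsDiscreteValuationRing R]
  {X : Over (Spec (CommRingCat.of R))}

/-- A field of functions with a rational point has length one. -/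
theorem lengthH_zero_eq_one {J : X.left.IdealSheafData} (hF : IsField Γ(J.subscheme, ⊤))
    {x : X.left} (hx : x ∈ (J.support : Set X.left))
    (hres : Function.Surjective ((X.left.residue x).hom.comp (Models.stalkHom R X x))) :
    Models.lengthH R X (ClSub.quotMod J) 0 = 1 := by
  obtain ⟨y, rfl⟩ : x ∈ Set.range J.subschemeι := by rwa [Scheme.IdealSheafData.range_subschemeι]
  let ρ : R →+* Γ(J.subscheme, ⊤) := J.subschemeι.appTop.hom.comp (Coh.toGlobal X.hom)
  let ev : Γ(J.subscheme, ⊤) →+* J.subscheme.residueField y :=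
    (J.subscheme.residue y).hom.comp (J.subscheme.presheaf.germ ⊤ y trivial).hom
  have hsurj : Function.Surjective (J.subschemeι.residueFieldMap y).hom := fun c => by
    obtain ⟨t, rfl⟩ := J.subscheme.residue_surjective y c
    obtain ⟨t', rfl⟩ := J.subschemeι.stalkMap_surjective y t
    exact ⟨X.left.residue _ t', congr($(Scheme.residue_residueFieldMap J.subschemeι y) t')⟩
  have hev : ∀ r : R, ev (ρ r) = (J.subschemeι.residueFieldMap y).hom
      ((X.left.residue (J.subschemeι y)).hom (Models.stalkHom R X (J.subschemeι y) r)) := fun r => by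
    refine Eq.trans ?_ (congr($(Scheme.residue_residueFieldMap J.subschemeι y)
      (Models.stalkHom R X (J.subschemeι y) r))).symm
    exact congrArg (J.subscheme.residue y)
      (J.subschemeι.germ_stalkMap_apply ⊤ y trivial (Coh.toGlobal X.hom r)).symm
  letI := hF.toField
  have hinj : Function.Injective ev := ev.injective
  have hρ : Function.Surjective ρ := fun b => by
    obtain ⟨c, hc⟩ := hsurj (ev b)
    obtain ⟨r, rfl⟩ := hres c
    exact ⟨r, hinj ((hev r).trans hc)⟩
  let e := ProperFin.h0Sec (ClSub.quotMod J)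
  have he : ∀ (r : R) (z : Coh.HH X.left (ClSub.quotMod J) 0),
      (show Γ(J.subscheme, ⊤) from e (r • z)) = ρ r * (show Γ(J.subscheme, ⊤) from e z) :=
    fun r z => ProperFin.h0Sec_smul (ClSub.quotMod J) (Coh.toGlobal X.hom r) z
  rw [Models.lengthH]
  suffices IsSimpleModule R (Coh.HH X.left (ClSub.quotMod J) 0) by
    rw [Module.length_eq_one_iff.mpr this]; rfl
  haveI : Nontrivial (Coh.HH X.left (ClSub.quotMod J) 0) :=
    haveI : Nontrivial Γ(J.subscheme, ⊤) := hF.nontrivial
    haveI : Nontrivial ↑Γ(ClSub.quotMod J, (⊤ : X.left.Opens)) := ‹Nontrivial Γ(J.subscheme, ⊤)›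
    e.toEquiv.nontrivial
  refine isSimpleModule_iff _ _ |>.mpr ⟨fun N => or_iff_not_imp_left.mpr fun hN => ?_⟩
  obtain ⟨z, hz, hz0⟩ := (Submodule.ne_bot_iff N).mp hN
  refine eq_top_iff.mpr fun w _ => ?_
  have hz' : (show Γ(J.subscheme, ⊤) from e z) ≠ 0 := fun h => hz0 (e.injective (h.trans (map_zero e).symm))
  obtain ⟨r, hr⟩ := hρ ((show Γ(J.subscheme, ⊤) from e w) / (show Γ(J.subscheme, ⊤) from e z))
  have : w = r • z := e.injective (by
    refine Eq.trans ?_ (he r z).symm
    rw [hr]
    exact (div_mul_cancel₀ _ hz').symm)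
  exact this ▸ N.smul_mem r hz

variable [IsProper X.hom]

theorem lengthH_ker (Γ : ArSurf.VertComp R X) :
    Models.lengthH R X (ClSub.quotMod Γ.ι.ker) 0 = Models.wdeg R X Γ := by
  rw [Models.lengthH, ← length_iso (nonempty_quotMod_ker Γ.ι).some 0,
    length_push (X := X) Γ.ι Γ.w (VBLib.isCoh_of_ofRank
      (ProjTwist.isFinLocFreeOfRank_one (PicLoc.isInvertible_structureModule Γ.curve.left))) 0]
  simp [Models.wdeg]

end Groth.Agent.VertInter
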