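import Groth.Agent.VertInter.List
import Groth.Agent.VertInter.Global
import Groth.Agent.ProjTwist.Tensor
import Mathlib.Data.List.FinRange

/-!
# Twists by vertical divisors
-/

set_option autoImplicit false
set_option linter.style.haveILetI false
universe u
open CategoryTheory CategoryTheory.Limits AlgebraicGeometry TopologicalSpace
open Groth.Agent.ProjTwist

namespace Groth.Agent.VertInter

section General

variable {X : Scheme.{u}} [IsLocallyNoetherian X]

omit [IsLocallyNoetherian X] in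
theorem mapIso_app {A B : X.Modules} (e : A ≅ B) (U : X.Opens) (s : Γ(A, U)) :
    e.inv.app U (e.hom.app U s) = s :=
  congrArg (fun φ => φ.app U s) e.hom_inv_id

/-- `P` is an invertible module inverse to the ideal module of `J`. -/
def IsInv (P : X.Modules) (J : X.IdealSheafData) : Prop :=
  PicF.IsInvertible P ∧ ClSub.IsInverseOf P (ClSub.idealMod J)

theorem inv_one : IsInv (Coh.structureModule X) (1 : X.IdealSheafData) := by
  obtain ⟨e⟩ := (CartFilt.nonempty_cokernel_θ (I := (⊤ : X.IdealSheafData)) IdealSh.EffCartier.top 0).2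
  rw [pow_zero] at e
  exact ⟨LFFrame.isInvertible_structureModule X, ⟨oneTens _ ≪≫ e.symm⟩⟩

theorem inv_mul {P Q : X.Modules} {I J : X.IdealSheafData} (hI : BlowUp.IsEffCartierIdeal I)
    (hJ : BlowUp.IsEffCartierIdeal J) (hP : IsInv P I) (hQ : IsInv Q J) :
    IsInv (CohB1.tensorMod P Q) (I * J) := by
  obtain ⟨m⟩ := nonempty_idealMod_mul hI hJ
  obtain ⟨eP⟩ := hP.2
  obtain ⟨eQ⟩ := hQ.2
  exact ⟨AmpleLib.isInvertible_tensorMod hP.1 hQ.1, ⟨tensCongr (Iso.refl _) m.symm ≪≫ tensAssoc _ _ _ ≪≫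
    tensCongr (Iso.refl P) ((tensAssoc _ _ _).symm ≪≫ tensCongr (tensComm Q _) (Iso.refl _) ≪≫
      tensAssoc _ _ _ ≪≫ tensCongr (Iso.refl _) eQ ≪≫ tensOne _) ≪≫ eP⟩⟩

theorem inv_pow {P : X.Modules} {I : X.IdealSheafData} (hI : BlowUp.IsEffCartierIdeal I)
    (hP : IsInv P I) : ∀ a : ℕ, IsInv (CohB1.tensorPow P a) (I ^ a)
  | 0 => by rw [pow_zero]; exact inv_one
  | a + 1 => by
    rw [pow_succ]
    exact inv_mul (IdealSh.EffCartier.pow hI a) hI (inv_pow hI hP a) hP

theorem inv_list {ι : Type} (F : ι → X.Modules) (J : ι → X.IdealSheafData)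
    (hJ : ∀ i, BlowUp.IsEffCartierIdeal (J i)) (h : ∀ i, IsInv (F i) (J i)) : ∀ l : List ι,
    BlowUp.IsEffCartierIdeal (l.map J).prod ∧ IsInv (FGA.tensorList (l.map F)) (l.map J).prod
  | [] => ⟨by simpa using IdealSh.EffCartier.pow (IdealSh.EffCartier.top (X := X)) 0, by
      rw [List.map_nil, List.map_nil, List.prod_nil]; exact inv_one⟩
  | i :: l => by
    obtain ⟨h1, h2⟩ := inv_list F J hJ h l
    rw [List.map_cons, List.map_cons, List.prod_cons]
    exact ⟨IdealSh.EffCartier.mul (hJ i) h1, inv_mul (hJ i) h1 (h i) h2⟩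

theorem inv_multiTwist {n : ℕ} (L : Fin n → X.Modules) (J : Fin n → X.IdealSheafData)
    (hJ : ∀ i, BlowUp.IsEffCartierIdeal (J i)) (hL : ∀ i, IsInv (L i) (J i)) (a : Fin n → ℕ) :
    BlowUp.IsEffCartierIdeal (∏ i, J i ^ a i) ∧ IsInv (FGA.multiTwist L a) (∏ i, J i ^ a i) := by
  rw [Fin.prod_univ_def]
  exact inv_list (fun i => CohB1.tensorPow (L i) (a i)) (fun i => J i ^ a i)
    (fun i => IdealSh.EffCartier.pow (hJ i) _) (fun i => inv_pow (hJ i) (hL i) _) _

omit [IsLocallyNoetherian X] in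
theorem inv_unique {P Q : X.Modules} {J : X.IdealSheafData} (hP : IsInv P J) (hQ : IsInv Q J) :
    Nonempty (P ≅ Q) := by
  obtain ⟨eP⟩ := hP.2
  obtain ⟨eQ⟩ := hQ.2
  exact ⟨(tensOne P).symm ≪≫ tensCongr (Iso.refl P) (eQ.symm ≪≫ tensComm _ _) ≪≫ (tensAssoc _ _ _).symm ≪≫
    tensCongr eP (Iso.refl Q) ≪≫ oneTens Q⟩

theorem ideal_iso_of_mul {P Q : X.Modules} {B C : X.IdealSheafData} (hB : BlowUp.IsEffCartierIdeal B)
    (hC : BlowUp.IsEffCartierIdeal C) (hP : IsInv P (B * C)) (hQ : IsInv Q B) (e : P ≅ Q) :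
    Nonempty (Coh.structureModule X ≅ ClSub.idealMod C) := by
  obtain ⟨m⟩ := nonempty_idealMod_mul hB hC
  obtain ⟨eP⟩ := hP.2
  obtain ⟨eQ⟩ := hQ.2
  exact ⟨eP.symm ≪≫ tensCongr e m.symm ≪≫ (tensAssoc _ _ _).symm ≪≫
    tensCongr eQ (Iso.refl _) ≪≫ oneTens _⟩

omit [IsLocallyNoetherian X] in
/-- A free ideal module is generated by one global function. -/
theorem exists_global_eqn {C : X.IdealSheafData} (e : Coh.structureModule X ≅ ClSub.idealMod C) :
    ∃ h : Γ(X, ⊤), ∀ U : X.affineOpens,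
      C.ideal U = Ideal.span {X.presheaf.map (homOfLE (le_top : U.1 ≤ ⊤)).op h} := by
  refine ⟨OmegaSh.idealSect C ⊤ (e.hom.app ⊤ (1 : Γ(X, ⊤))), fun U => le_antisymm (fun t ht => ?_) ?_⟩
  · obtain ⟨s, rfl⟩ := IdealSh.IdealMod.exists_sect C U.1 t ((IdealSh.IdealMod.mem_ideal_iff C U t).mp ht)
    have hs : s = e.hom.app U.1 (e.inv.app U.1 s) := (mapIso_app e.symm U.1 s).symm
    let r : Γ(X, U.1) := e.inv.app U.1 s
    have h1 : e.hom.app U.1 (r • (show Γ(Coh.structureModule X, U.1) from (1 : Γ(X, U.1)))) =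
        r • (ClSub.idealMod C).presheaf.map (homOfLE (le_top : U.1 ≤ ⊤)).op (e.hom.app ⊤ (1 : Γ(X, ⊤))) := by
      rw [Scheme.Modules.Hom.app_smul]
      refine congrArg (r • ·) ?_
      refine Eq.trans (congrArg (e.hom.app U.1) ?_) (NatTrans.naturality_apply e.hom.mapPresheaf
        (homOfLE (le_top : U.1 ≤ ⊤)).op (show Γ(Coh.structureModule X, ⊤) from (1 : Γ(X, ⊤))))
      exact ((X.presheaf.map (homOfLE (le_top : U.1 ≤ ⊤)).op).hom.map_one).symm
    have h2 : r • (show Γ(Coh.structureModule X, U.1) from (1 : Γ(X, U.1))) = e.inv.app U.1 s := mul_one r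
    rw [hs, ← h2, h1, Omega.Stalks.idealSect_smul, Omega.Stalks.idealSect_map]
    exact Ideal.mul_mem_left _ _ (Ideal.subset_span rfl)
  · rw [Ideal.span_singleton_le_iff_mem, ← Omega.Stalks.idealSect_map]
    exact IdealSh.IdealMod.sect_mem C U _

end General

variable {R : Type u} [CommRing R] [IsDomain R] [IsDiscreteValuationRing R]
  {X : Over (Spec (CommRingCat.of R))} [IsProper X.hom] [Flat X.hom]

theorem fibre_eqn {ϖ : R} (hϖ : Irreducible ϖ) (U : X.left.affineOpens) :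
    (Models.specialFibreIdeal R X).ideal U = Ideal.span
      {X.left.presheaf.map (homOfLE (le_top : U.1 ≤ ⊤)).op (Coh.toGlobal X.hom ϖ)} := by
  refine (IdealSh.Comap.ofIdealTop_comap _ X.hom U).trans ?_
  rw [hϖ.maximalIdeal_eq, Ideal.map_span, Ideal.map_span, Set.image_singleton, Set.image_singleton]
  rfl

theorem inv_fibre : IsInv (Coh.structureModule X.left) (Models.specialFibreIdeal R X) := by
  haveI := isLocallyNoetherian_of_proper (R := R) (X := X)
  obtain ⟨ϖ, hϖ⟩ := IsDiscreteValuationRing.exists_irreducible R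
  obtain ⟨e⟩ := CartFilt.nonempty_structure_iso_of_eqn (S3313.isEffCartier_fibre X)
    (Coh.toGlobal X.hom ϖ) (fibre_eqn hϖ)
  exact ⟨LFFrame.isInvertible_structureModule X.left, ⟨oneTens _ ≪≫ e.symm⟩⟩

theorem tensorPow_structure : ∀ c : ℕ,
    Nonempty (CohB1.tensorPow (Coh.structureModule X.left) c ≅ Coh.structureModule X.left)
  | 0 => ⟨Iso.refl _⟩
  | c + 1 => ⟨tensCongr (tensorPow_structure c).some (Iso.refl _) ≪≫ oneTens _⟩

theorem inv_fibre_pow (c : ℕ) :
    IsInv (Coh.structureModule X.left) (Models.specialFibreIdeal R X ^ c) := by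
  haveI := isLocallyNoetherian_of_proper (R := R) (X := X)
  obtain ⟨h1, ⟨h2⟩⟩ := inv_pow (S3313.isEffCartier_fibre X) inv_fibre c
  exact ⟨LFFrame.isInvertible_structureModule X.left,
    ⟨tensCongr (tensorPow_structure c).some.symm (Iso.refl _) ≪≫ h2⟩⟩

/-- A free Cartier ideal is a power of the ideal of the closed fibre. -/
theorem eq_fibre_pow [Nonempty X.left] (hglob : Function.Surjective (Coh.toGlobal X.hom))
    {C : X.left.IdealSheafData} (hC : BlowUp.IsEffCartierIdeal C)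
    (e : Coh.structureModule X.left ≅ ClSub.idealMod C) :
    ∃ v : ℕ, C = Models.specialFibreIdeal R X ^ v := by
  obtain ⟨h, hh⟩ := exists_global_eqn e
  obtain ⟨r, rfl⟩ := hglob h
  obtain ⟨ϖ, hϖ⟩ := IsDiscreteValuationRing.exists_irreducible R
  have hr : r ≠ 0 := by
    rintro rfl
    obtain ⟨x⟩ := ‹Nonempty X.left›
    obtain ⟨U, hx, f, hf, he⟩ := hC x
    let ψ : R →+* Γ(X.left, U.1) :=
      (X.left.presheaf.map (homOfLE (le_top : U.1 ≤ ⊤)).op).hom.comp (Coh.toGlobal X.hom)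
    have hfm : f ∈ Ideal.span {ψ 0} := by
      have h1 : f ∈ C.ideal U := he ▸ Ideal.mem_span_singleton_self f
      rw [hh U] at h1
      exact h1
    rw [map_zero, Ideal.span_singleton_zero, Ideal.mem_bot] at hfm
    have hgm := IdealSh.Regular.germ_mem_nonZeroDivisors U.2 x hx hf
    rw [hfm, map_zero] at hgm
    exact zero_notMem_nonZeroDivisors hgm
  obtain ⟨v, w, rfl⟩ := IsDiscreteValuationRing.eq_unit_mul_pow_irreducible hr hϖ
  refine ⟨v, IdealSh.Comap.ext_of_forall_exists _ _ fun x => ?_⟩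
  obtain ⟨U, hx, -⟩ := IdealSh.Comap.exists_affine_le x ⊤ trivial
  refine ⟨U, hx, ?_⟩
  let ψ : R →+* Γ(X.left, U.1) :=
    (X.left.presheaf.map (homOfLE (le_top : U.1 ≤ ⊤)).op).hom.comp (Coh.toGlobal X.hom)
  rw [hh U, Scheme.IdealSheafData.ideal_pow, Pi.pow_apply, fibre_eqn hϖ, Ideal.span_singleton_pow]
  change Ideal.span {ψ (↑w * ϖ ^ v)} = Ideal.span {ψ ϖ ^ v}
  rw [map_mul, map_pow]
  exact Ideal.span_singleton_mul_left_unit ((Units.isUnit w).map ψ) _

/-- The exponents of a vertical divisor are determined by it. -/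
theorem exponents_unique {Y : Scheme.{u}} {p : Y ⟶ Spec (CommRingCat.of R)} [IsProper p] [Flat p]
    (hreg : Models.IsRegularScheme Y) {n : ℕ} {Δ : Fin n → ArSurf.VertComp R (Over.mk p)}
    (hΔ : Models.IsComponentList R (Over.mk p) Δ) {a b : Fin n → ℕ}
    (h : ∏ j, (Δ j).ι.ker ^ a j = ∏ j, (Δ j).ι.ker ^ b j) : a = b := by
  haveI : Flat (Over.mk p).hom := ‹Flat p›
  haveI : ∀ x : (Over.mk p).left, IsDomain ((Over.mk p).left.presheaf.stalk x) := fun x =>
    haveI : IsRegularLocalRing ((Over.mk p).left.presheaf.stalk x) := hreg x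
    RegLoc.isDomain _
  haveI : ∀ x : (Over.mk p).left, UniqueFactorizationMonoid ((Over.mk p).left.presheaf.stalk x) := fun x =>
    haveI : IsRegularLocalRing ((Over.mk p).left.presheaf.stalk x) := hreg x
    RegLoc.UFD.uniqueFactorizationMonoid _
  obtain ⟨ϖ, hϖ⟩ := IsDiscreteValuationRing.exists_irreducible R
  funext i
  set ξ := Models.genPtOf R (Over.mk p) (Δ i)
  obtain ⟨g, -, hg, hgP, -, -, -⟩ := S3313.exists_generator (Over.mk p) hϖ Δ hΔ ξ i specializes_rfl
  have key : ∀ c : Fin n → ℕ, IntMult.stalkIdeal (∏ j, (Δ j).ι.ker ^ c j) ξ = Ideal.span {g ^ c i} := by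
    intro c
    rw [S3313.stalkIdeal_prod, Finset.prod_eq_single i]
    · rw [IdealSh.stalkIdeal_pow, show IntMult.stalkIdeal (Δ i).ι.ker ξ = CDivLib.genPrime (X := (Over.mk p).left) (z := ξ) (x := ξ) specializes_rfl from S3313.stalkIdeal_ker (Δ i).ι specializes_rfl]
      exact (congrArg (· ^ c i) hgP).trans (Ideal.span_singleton_pow g (c i))
    · intro j _ hj
      rw [IdealSh.stalkIdeal_pow, S3313.stalkIdeal_ker_eq_top (Δ j).ι ?_, ← Ideal.one_eq_top, one_pow]
      intro hsp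
      refine genPt_not_mem hΔ (Ne.symm hj) ?_
      rw [S3313.range_eq_closure (Δ j).ι]
      exact specializes_iff_mem_closure.mp hsp
    · simp
  have h1 := key a
  rw [h, key b, Ideal.span_singleton_eq_span_singleton] at h1
  have hd1 := (pow_dvd_pow_iff hg.ne_zero hg.not_unit).mp h1.dvd
  have hd2 := (pow_dvd_pow_iff hg.ne_zero hg.not_unit).mp h1.symm.dvd
  omega

end Groth.Agent.VertInter
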