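import Groth.Agent.VertInter.PicClass
import Groth.Agent.S3314
import Groth.Agent.S3315

/-!
# The kernel of restriction to the generic fibre
-/

set_option autoImplicit false
set_option linter.style.haveILetI false
universe u
open CategoryTheory CategoryTheory.Limits AlgebraicGeometry TopologicalSpace

noncomputable section

namespace Groth.Agent.VertInter

attribute [local instance] PicLaw.law

variable {R : Type u} [CommRing R] [IsDomain R] [IsDiscreteValuationRing R]
  {C X : Scheme.{u}} {f : C ⟶ Spec (CommRingCat.of (FractionRing R))} {p : X ⟶ Spec (CommRingCat.of R)}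
  (hC : Curve.IsSmoothProperCurve (FractionRing R) C f) (hH0 : IsIso f.appTop)
  (hX : Models.IsRegularProperModel R X p C f)
  {n : ℕ} {Γ : Fin n → ArSurf.VertComp R (Over.mk p)} (hΓ : Models.IsComponentList R (Over.mk p) Γ)
  {g : C ⟶ X} (hg : IsPullback g f p (Spec.map (CommRingCat.ofHom (algebraMap R (FractionRing R)))))
  (L : Fin n → X.Modules) (hL : ∀ i, ClSub.IsInverseOf (L i) (ClSub.idealMod (Γ i).ι.ker))

include hX hΓ hL in
theorem model_invertible (i : Fin n) : PicF.IsInvertible (L i) := by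
  haveI : Flat p := hX.1.1
  haveI : IsProper p := hX.2.1
  exact isInvertible_inverse ((S3313.eq_prod p hX.1.1 inferInstance hX.2.2 Γ hΓ).1 i) (hL i)

include hC hH0 hX hΓ hL in
theorem E_eq_one_iff (v : Fin n → ℤ) :
    E L (model_invertible hX hΓ L hL) v = 1 ↔ ∃ c : ℤ, ∀ i, v i = c * (Models.mult R (Over.mk p) (Γ i) : ℤ) := by
  obtain ⟨a, b, hab⟩ := exists_toNat v
  have hv : v = (fun i => (a i : ℤ)) - fun i => (b i : ℤ) := funext hab
  obtain ⟨ha, ea⟩ := exists_cls_multiTwist L (model_invertible hX hΓ L hL) a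
  obtain ⟨hb, eb⟩ := exists_cls_multiTwist L (model_invertible hX hΓ L hL) b
  conv_lhs => rw [hv, E_sub, ← ea, ← eb, div_eq_one, PicGrp.cls_eq_cls_iff,
    S3314.result R C X f p hC hH0 hX Γ hΓ L hL a b]
  simp only [← hab]

include hC hH0 hX hΓ hg hL in
theorem exists_E_of_trivial {M : X.Modules} (hM : PicF.IsInvertible M)
    (htriv : Nonempty ((Scheme.Modules.pullback g).obj M ≅ Coh.structureModule C)) :
    ∃ v : Fin n → ℤ, PicGrp.cls M hM = E L (model_invertible hX hΓ L hL) v := by
  obtain ⟨a, b, e⟩ := S3315.result R C X f p hC hH0 hX Γ hΓ g hg L hL M hM htriv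
  obtain ⟨ha, ea⟩ := exists_cls_multiTwist L (model_invertible hX hΓ L hL) a
  obtain ⟨hb, eb⟩ := exists_cls_multiTwist L (model_invertible hX hΓ L hL) b
  refine ⟨(fun i => (b i : ℤ)) - fun i => (a i : ℤ), ?_⟩
  rw [E_sub, ← ea, ← eb, eq_div_iff_mul_eq', ← cls_tensor hM ha (AmpleLib.isInvertible_tensorMod hM ha),
    PicGrp.cls_eq_cls_iff]
  exact e

include hX hΓ hg hL in
theorem pullback_comp_trivial (i : Fin n) :
    Nonempty ((Scheme.Modules.pullback g).obj (L i) ≅ Coh.structureModule C) := by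
  haveI : Flat p := hX.1.1
  haveI : IsProper p := hX.2.1
  haveI : IsLocallyNoetherian X := LocallyOfFiniteType.isLocallyNoetherian p
  haveI : IsOpenImmersion (Spec.map (CommRingCat.ofHom (algebraMap R (FractionRing R)))) :=
    CBC.PicDVR.isOpenImmersion_gen R (FractionRing R)
  haveI : IsOpenImmersion g := MorphismProperty.of_isPullback (P := @IsOpenImmersion) hg.flip inferInstance
  haveI : IsLocallyNoetherian C := isLocallyNoetherian_of_isOpenImmersion g
  have hc := (S3313.eq_prod p hX.1.1 inferInstance hX.2.2 Γ hΓ).1 i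
  have htop : Scheme.IdealSheafData.comap (X := C) (Y := X) (Γ i).ι.ker g = ⊤ := by
    refine IdealSh.Comap.comap_eq_top_of_disjoint (Y := X) _ g (Set.disjoint_left.mpr ?_)
    rintro _ ⟨c, rfl⟩ hc'
    change g c ∈ ((Γ i).ι.ker.support : Set (Over.mk p).left) at hc'
    rw [Scheme.Hom.support_ker, (Γ i).ι.isClosedEmbedding.isClosed_range.closure_eq] at hc'
    have hsub : Set.range (Γ i).ι.base ⊆ Models.specialFibreSet R (Over.mk p) :=
      (show Set.range (Γ i).ι.base ∈ Models.fibreComponents R (Over.mk p) from hΓ.2 ▸ ⟨i, rfl⟩).1.2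
    exact (mem_range_iff (X := Over.mk p) hg (g c)).mp ⟨c, rfl⟩ (hsub hc')
  obtain ⟨e1⟩ := PicAlg.nonempty_pullback_idealMod (Y := X) g (Γ i).ι.ker hc
    (by rw [htop]; exact IdealSh.EffCartier.top)
  obtain ⟨e2⟩ := PicLaw.pullback_tensor g (model_invertible hX hΓ L hL i)
    (IdealSh.IdealMod.isInvertible_of_isEffCartierIdeal (X := X) (Γ i).ι.ker hc)
  have eT : ClSub.idealMod (⊤ : C.IdealSheafData) ≅ Coh.structureModule C := by
    have h1 := (CartFilt.nonempty_cokernel_θ (I := (⊤ : C.IdealSheafData)) IdealSh.EffCartier.top 1).2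
    rw [pow_one] at h1
    have h0 := (CartFilt.nonempty_cokernel_θ (I := (⊤ : C.IdealSheafData)) IdealSh.EffCartier.top 0).2
    rw [pow_zero] at h0
    have htop1 : (1 : C.IdealSheafData) = ⊤ := rfl
    rw [htop1] at h0
    exact h0.some.symm
  rw [htop] at e1
  exact ⟨(ProjTwist.tensOne _).symm ≪≫ ProjTwist.tensCongr (Iso.refl _) (eT.symm ≪≫ e1.symm) ≪≫ e2.symm ≪≫
    (Scheme.Modules.pullback g).mapIso (hL i).some ≪≫ QCoh.pullbackUnitIso g⟩

/-- The restriction homomorphism. -/
def restr (g : C ⟶ X) : PicLoc.PicSet X →* PicLoc.PicSet C := PicGrp.pullHom g (PicLaw.pullMul g)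

theorem restr_cls (g : C ⟶ X) {M : X.Modules} (hM : PicF.IsInvertible M) :
    restr g (PicGrp.cls M hM) = PicGrp.cls ((Scheme.Modules.pullback g).obj M) (PicLoc.isInvertible_pullback g hM) :=
  PicGrp.pullHom_cls g (PicLaw.pullMul g) M hM

include hX hΓ hg hL in
theorem restr_E (v : Fin n → ℤ) : restr g (E L (model_invertible hX hΓ L hL) v) = 1 := by
  unfold E BigVol.Multi.pw
  rw [map_prod]
  refine Finset.prod_eq_one fun i _ => ?_
  rw [map_zpow, restr_cls, (PicGrp.cls_eq_one_iff _).mpr (pullback_comp_trivial hX hΓ hg L hL i), one_zpow]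

theorem exists_rep (x : PicLoc.PicSet X) : ∃ (M : X.Modules) (h : PicF.IsInvertible M), PicGrp.cls M h = x :=
  ⟨_, (BigVol.Multi.rep_spec x).choose, (BigVol.Multi.rep_spec x).choose_spec⟩

include hX hΓ in
theorem nonempty_fin (hne : Nonempty C) (hg : IsPullback g f p (Spec.map (CommRingCat.ofHom (algebraMap R (FractionRing R))))) :
    Nonempty (Fin n) := by
  haveI : Flat p := hX.1.1
  haveI : IsProper p := hX.2.1
  haveI : IsProper (Over.mk p).hom := hX.2.1
  haveI : IsLocallyNoetherian X := LocallyOfFiniteType.isLocallyNoetherian p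
  haveI : CompactSpace X := QuasiCompact.compactSpace_of_compactSpace p
  obtain ⟨x, hx⟩ := nonempty_specialFibreSet (X := Over.mk p) hg
  rw [← iUnion_range_eq hΓ] at hx
  obtain ⟨i, -⟩ := Set.mem_iUnion.mp hx
  exact ⟨i⟩

end Groth.Agent.VertInter

namespace Groth.Agent.VertInter

attribute [local instance] PicLaw.law

variable {R : Type u} [CommRing R] [IsDomain R] [IsDiscreteValuationRing R]
  {C X : Scheme.{u}} {f : C ⟶ Spec (CommRingCat.of (FractionRing R))} {p : X ⟶ Spec (CommRingCat.of R)}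
  (hC : Curve.IsSmoothProperCurve (FractionRing R) C f) (hH0 : IsIso f.appTop)
  (hX : Models.IsRegularProperModel R X p C f)
  {n : ℕ} {Γ : Fin n → ArSurf.VertComp R (Over.mk p)} (hΓ : Models.IsComponentList R (Over.mk p) Γ)
  {g : C ⟶ X} (hg : IsPullback g f p (Spec.map (CommRingCat.ofHom (algebraMap R (FractionRing R)))))
  (L : Fin n → X.Modules) (hL : ∀ i, ClSub.IsInverseOf (L i) (ClSub.idealMod (Γ i).ι.ker))

include hC hH0 hX hΓ hg hL in
theorem exists_E_of_restr_eq {x y : PicLoc.PicSet X} (h : restr g x = restr g y) :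
    ∃ v : Fin n → ℤ, x = y * E L (model_invertible hX hΓ L hL) v := by
  obtain ⟨M, hM, hMc⟩ := exists_rep (x / y)
  have hone : restr g (x / y) = 1 := by rw [map_div, h, div_self']
  rw [← hMc, restr_cls, PicGrp.cls_eq_one_iff] at hone
  obtain ⟨v, hv⟩ := exists_E_of_trivial hC hH0 hX hΓ hg L hL hM hone
  exact ⟨v, by rw [← hv, hMc, mul_div_cancel]⟩

end Groth.Agent.VertInter
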