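import Groth.Agent.VertInter.Euler
import Groth.Agent.EulerFam.Scheme
import Groth.Agent.AssSch.Reduced
import Groth.Agent.Adic.IdealSpec
import Groth.Agent.VertInter.Global

/-!
# The Euler characteristic of the closed fibre of a model
-/

set_option autoImplicit false
set_option linter.style.haveILetI false
universe u
open CategoryTheory CategoryTheory.Limits AlgebraicGeometry TopologicalSpace

noncomputable section

namespace Groth.Agent.VertInter

variable {R : Type u} [CommRing R] [IsDomain R] [IsDiscreteValuationRing R]
  {C X : Scheme.{u}} {f : C ⟶ Spec (CommRingCat.of (FractionRing R))} {p : X ⟶ Spec (CommRingCat.of R)}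

local notation "k" => IsLocalRing.ResidueField R

theorem finrank_H0_eq_one {K : Type u} [Field K] {C : Scheme.{u}} (f : C ⟶ Spec (CommRingCat.of K))
    (hH0 : IsIso f.appTop) :
    letI : C.Over (Spec (CommRingCat.of K)) := ⟨f⟩
    Module.finrank K (Coh.HH C (Coh.structureModule C) 0) = 1 := by
  letI : C.Over (Spec (CommRingCat.of K)) := ⟨f⟩
  have hb : Function.Bijective (Coh.toGlobal (A := K) f) :=
    (ConcreteCategory.bijective_of_isIso f.appTop).comp
      (ConcreteCategory.bijective_of_isIso (Scheme.ΓSpecIso (CommRingCat.of K)).inv)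
  let e : K ≃ₗ[K] Coh.HH C (Coh.structureModule C) 0 :=
    { (AddEquiv.ofBijective (Coh.toGlobal (A := K) f).toAddMonoidHom hb).trans
        (ProperFin.h0Sec (Coh.structureModule C)).symm with
      map_smul' := fun r a => by
        apply (ProperFin.h0Sec (Coh.structureModule C)).injective
        refine Eq.trans ?_ (ProperFin.h0Sec_smul (Coh.structureModule C) (Coh.toGlobal f r) _).symm
        show (ProperFin.h0Sec (Coh.structureModule C))
            ((ProperFin.h0Sec (Coh.structureModule C)).symm (Coh.toGlobal f (r * a))) =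
          (show Γ(C, ⊤) from Coh.toGlobal f r) • (ProperFin.h0Sec (Coh.structureModule C))
            ((ProperFin.h0Sec (Coh.structureModule C)).symm (Coh.toGlobal f a))
        refine ((ProperFin.h0Sec (Coh.structureModule C)).apply_symm_apply _).trans ?_
        refine (map_mul (Coh.toGlobal f) r a).trans ?_
        exact (congrArg (fun t => (show Γ(C, ⊤) from Coh.toGlobal f r) • t)
          ((ProperFin.h0Sec (Coh.structureModule C)).apply_symm_apply _)).symm }
  rw [← e.finrank_eq, Module.finrank_self]

variable (hC : Curve.IsSmoothProperCurve (FractionRing R) C f) (hH0 : IsIso f.appTop)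
  (hX : Models.IsRegularProperModel R X p C f)
  {n : ℕ} (Γ : Fin n → ArSurf.VertComp R (Over.mk p)) (hΓ : Models.IsComponentList R (Over.mk p) Γ)

include hC hH0 hX hΓ in
/-- `χ(O_{X_k}) = 1 - g_C` -/
theorem chi_fibre : chi (ClSub.quotMod (Models.specialFibreIdeal R (Over.mk p))) =
    1 - (Models.curveGenus (FractionRing R) C f : ℤ) := by
  obtain ⟨hprop, -, hint, hdim⟩ := hC
  haveI : Flat p := hX.1.1
  haveI : IsProper p := hX.2.1
  haveI : IsProper (Over.mk p).hom := hX.2.1
  haveI : IsLocallyNoetherian X := LocallyOfFiniteType.isLocallyNoetherian p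
  obtain ⟨g, hg⟩ := hX.1.2.2.2
  obtain ⟨φ, hφ, hev⟩ := EulerFam.exists_isLocallyConstant (f := p)
    (ProperFin.isCoh_structureModule X) (AssSch.Reduced.isFlatOver_structure p)
  -- the generic fibre
  letI : C.Over (Spec (CommRingCat.of (FractionRing R))) := ⟨f⟩
  haveI : IsProper (C ↘ Spec (CommRingCat.of (FractionRing R))) := hprop
  have hη := hev (FractionRing R) _ C g f hg (Classical.arbitrary _)
  have hη' : (∑ m ∈ Finset.range 2, (-1 : ℤ) ^ m *
      (Module.finrank (FractionRing R) (Coh.HH C (Coh.structureModule C) m) : ℤ)) = φ _ :=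
    (EulerChar.euler_eq_sum (FractionRing R) (M := Coh.structureModule C) (t := 2) fun m hm =>
        EulerChar.subsingleton_HH_two_le (FractionRing R) hdim _ hm).symm.trans
      ((EulerChar.euler_iso (FractionRing R) (QCoh.pullbackUnitIso g)).symm.trans hη)
  simp only [Finset.sum_range_succ, Finset.sum_range_zero, pow_zero, pow_one, one_mul, zero_add, neg_one_mul,
    finrank_H0_eq_one f hH0, Nat.cast_one] at hη'
  -- the closed fibre
  let i : Spec (CommRingCat.of k) ⟶ Spec (CommRingCat.of R) := Spec.map (CommRingCat.ofHom (IsLocalRing.residue R))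
  haveI : IsClosedImmersion i := IsClosedImmersion.spec_of_surjective _ IsLocalRing.residue_surjective
  have hI : i.ker = Curv2.idealSheaf R (IsLocalRing.maximalIdeal R) := by
    refine Scheme.IdealSheafData.ext_of_isAffine ?_
    rw [Adic.IdealSpec.ker_Spec_map_eq, IsLocalRing.ker_residue]
    show _ = (Scheme.IdealSheafData.ofIdealTop _).ideal ⟨⊤, _⟩
    rw [Scheme.IdealSheafData.ofIdealTop_ideal]
    simp only [homOfLE_refl, op_id, CategoryTheory.Functor.map_id, CommRingCat.hom_id, Ideal.map_id]
    exact (Ideal.map_symm (Adic.IdealSpec.gEquiv R)).symm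
  let Y := pullback p i
  let j : Y ⟶ (Over.mk p).left := pullback.fst p i
  haveI : IsClosedImmersion j := inferInstanceAs (IsClosedImmersion (pullback.fst p i))
  have hj : j.ker = Models.specialFibreIdeal R (Over.mk p) :=
    (Scheme.IdealSheafData.ker_fst_of_isClosedImmersion i p).trans
      (congrArg (fun I => Scheme.IdealSheafData.comap I p) hI)
  letI : Y.Over (Spec (CommRingCat.of k)) := ⟨pullback.snd p i⟩
  haveI : IsProper (Y ↘ Spec (CommRingCat.of k)) := inferInstanceAs (IsProper (pullback.snd p i))
  have hs := hev k i Y (pullback.fst p i) (pullback.snd p i) (IsPullback.of_hasPullback p i) (Classical.arbitrary _)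
  have hs₁ : Curv2.euler k Y (Coh.structureModule Y) = φ _ :=
    (EulerChar.euler_iso k (QCoh.pullbackUnitIso (pullback.fst p i))).symm.trans hs
  haveI := EulerChar.isLocallyNoetherian k (X := Y)
  have hlen : ∀ m, Module.length R (Coh.HH (Over.mk p).left
      (ClSub.quotMod (Models.specialFibreIdeal R (Over.mk p))) m) =
      (Module.finrank k (Coh.HH Y (Coh.structureModule Y) m) : ℕ∞) := fun m => by
    rw [← hj, ← length_iso (nonempty_quotMod_ker (X := Over.mk p) j).some m]
    exact length_push (X := Over.mk p) j pullback.condition (ProperFin.isCoh_structureModule _) m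
  have hfin : FinLen (ClSub.quotMod (Models.specialFibreIdeal R (Over.mk p))) := by
    obtain ⟨hcart, heq⟩ := S3313.eq_prod p hX.1.1 inferInstance hX.2.2 Γ hΓ
    rw [heq]
    exact finLen_divIdeal (X := Over.mk p) Γ hcart _
  have hvan : ∀ m, 2 ≤ m → Module.finrank k (Coh.HH Y (Coh.structureModule Y) m) = 0 := fun m hm => by
    have h1 := hlen m
    haveI := hfin.2 m hm
    rw [Module.length_eq_zero] at h1
    exact_mod_cast h1.symm
  rw [Curv2.euler, finsum_eq_sum_of_support_subset _ (s := Finset.range 2) fun m hm => by
    by_contra hm'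
    exact hm (show (-1 : ℤ) ^ m * _ = 0 by rw [hvan m (by simp at hm'; omega)]; simp)] at hs₁
  simp only [Finset.sum_range_succ, Finset.sum_range_zero, pow_zero, pow_one, one_mul, zero_add, neg_one_mul] at hs₁
  haveI : PreconnectedSpace (Spec (CommRingCat.of R)) :=
    inferInstanceAs (PreconnectedSpace (PrimeSpectrum R))
  have hconst := hφ.apply_eq_of_preconnectedSpace (i.base (Classical.arbitrary _))
    ((Spec.map (CommRingCat.ofHom (algebraMap R (FractionRing R)))).base (Classical.arbitrary _))
  simp only [chi, Models.lengthH, hlen, ENat.toNat_coe]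
  have hg' : (Models.curveGenus (FractionRing R) C f : ℤ) =
      (Module.finrank (FractionRing R) (Coh.HH C (Coh.structureModule C) 1) : ℤ) := rfl
  rw [hg']
  linarith

end Groth.Agent.VertInter
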