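import Groth.Agent.VertInter.Deg
import Groth.Agent.ProperFin.Descend
import Groth.Agent.S7915
import Groth.Prelude.Def_ModelsG
import Mathlib.RingTheory.Length

/-!
# Intersection numbers as lengths on the surface
-/

set_option autoImplicit false
set_option linter.style.haveILetI false
universe u
open CategoryTheory CategoryTheory.Limits AlgebraicGeometry TopologicalSpace

namespace Groth.Agent.VertInter

variable {R : Type u} [CommRing R] [IsDomain R] [IsDiscreteValuationRing R]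
  {X : Over (Spec (CommRingCat.of R))} (Γ : ArSurf.VertComp R X)

local notation "k" => IsLocalRing.ResidueField R

omit [IsDomain R] [IsDiscreteValuationRing R] in
theorem map_comap_closedImmersion {Y Z : Scheme.{u}} (ι : Y ⟶ Z) [IsClosedImmersion ι]
    (I : Z.IdealSheafData) : (I.comap ι).map ι = I ⊔ ι.ker := by
  refine Scheme.IdealSheafData.ext (funext fun U => ?_)
  have hV : IsAffineOpen (ι ⁻¹ᵁ U.1) := U.2.preimage ι
  rw [Scheme.IdealSheafData.ideal_map _ _ U hV, IdealSh.Comap.ideal_comap_app I ι U hV,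
    Scheme.IdealSheafData.ideal_sup, Pi.sup_apply, Scheme.Hom.ker_apply]
  exact Ideal.comap_map_of_surjective' _ (ι.app_surjective U.1 U.2) _

theorem length_eq_finrank_of_semilinear {M N : Type u} [AddCommGroup M] [Module R M] [AddCommGroup N]
    [Module k N] [Module.Finite k N] (ψ : N ≃+ M)
    (hψ : ∀ (r : R) (x : N), ψ (IsLocalRing.residue R r • x) = r • ψ x) :
    (Module.length R M).toNat = Module.finrank k N := by
  let φ : M →ₛₗ[IsLocalRing.residue R] N :=
    { toFun := ψ.symm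
      map_add' := map_add ψ.symm
      map_smul' := fun r m => ψ.injective (by simp [hψ]) }
  haveI : RingHomSurjective (IsLocalRing.residue R) := ⟨IsLocalRing.residue_surjective⟩
  have h : Module.length R M = Module.length k N := by
    refine WithBot.coe_injective ?_
    rw [Module.coe_length, Module.coe_length]
    exact Order.krullDim_eq_of_orderIso (Submodule.orderIsoMapComapOfBijective φ ψ.symm.bijective)
  rw [h, Module.length_eq_finrank, ENat.toNat_coe]

variable [IsProper X.hom]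

theorem finrank_eq_lengthH (I : X.left.IdealSheafData) :
    Module.finrank k (Coh.HH Γ.curve.left (ClSub.quotMod (I.comap Γ.ι)) 0) =
      Models.lengthH R X (ClSub.quotMod (I ⊔ Γ.ι.ker)) 0 := by
  haveI : Module.Finite k (Coh.HH Γ.curve.left (ClSub.quotMod (I.comap Γ.ι)) 0) :=
    EulerChar.finite_HH k _ (EulerChar.isCoh_quotMod k _) 0
  let j := (I.comap Γ.ι).subschemeι ≫ Γ.ι
  have hker : j.ker = I ⊔ Γ.ι.ker := map_comap_closedImmersion Γ.ι I
  haveI : IsClosedImmersion j := inferInstance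
  obtain ⟨ε, hε⟩ : ∃ ε : (I.comap Γ.ι).subscheme ≅ (I ⊔ Γ.ι.ker).subscheme,
      ε.hom ≫ (I ⊔ Γ.ι.ker).subschemeι = j := by
    rw [← hker]
    exact ⟨asIso j.toImage, j.toImage_imageι⟩
  haveI : IsIso ε.hom.appTop := inferInstanceAs (IsIso (Scheme.Γ.map ε.hom.op))
  let θ : Γ((I ⊔ Γ.ι.ker).subscheme, ⊤) ≃+* Γ((I.comap Γ.ι).subscheme, ⊤) :=
    (asIso ε.hom.appTop).commRingCatIsoToRingEquiv
  let e₁ : Coh.HH Γ.curve.left (ClSub.quotMod (I.comap Γ.ι)) 0 ≃+ Γ((I.comap Γ.ι).subscheme, ⊤) :=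
    ProperFin.h0Sec _
  let e₂ : Coh.HH X.left (ClSub.quotMod (I ⊔ Γ.ι.ker)) 0 ≃+ Γ((I ⊔ Γ.ι.ker).subscheme, ⊤) :=
    ProperFin.h0Sec _
  refine (length_eq_finrank_of_semilinear (R := R) (e₁.trans (θ.toAddEquiv.symm.trans e₂.symm)) fun r x => ?_).symm
  apply e₂.injective
  apply θ.injective
  simp only [AddEquiv.trans_apply, AddEquiv.apply_symm_apply, RingEquiv.toAddEquiv_eq_coe,
    ← RingEquiv.coe_toAddEquiv]
  refine Eq.trans ?_ (congrArg θ (ProperFin.h0Sec_smul (ClSub.quotMod (I ⊔ Γ.ι.ker))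
    (Coh.toGlobal X.hom r) (e₂.symm (θ.toAddEquiv.symm (e₁ x))))).symm
  refine (ProperFin.h0Sec_smul (ClSub.quotMod (I.comap Γ.ι))
    (Coh.toGlobal Γ.curve.hom (IsLocalRing.residue R r)) x).trans ?_
  refine Eq.trans ?_ (map_mul θ ((I ⊔ Γ.ι.ker).subschemeι.appTop (Coh.toGlobal X.hom r))
    (e₂ (e₂.symm (θ.toAddEquiv.symm (e₁ x))))).symm
  rw [AddEquiv.apply_symm_apply]
  refine congr(_ * $(?_)).trans (congrArg (· * θ (θ.toAddEquiv.symm (e₁ x))) ?_)
  · exact (θ.apply_symm_apply _).symm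
  · have h : (I.comap Γ.ι).subschemeι.appTop (Coh.toGlobal Γ.curve.hom (IsLocalRing.residue R r)) =
        ε.hom.appTop ((I ⊔ Γ.ι.ker).subschemeι.appTop (Coh.toGlobal X.hom r)) := by
      exact (congrArg (fun y => (I.comap Γ.ι).subschemeι.appTop y)
          (S7915.toGlobal_square (IsLocalRing.residue R) Γ.ι X.hom Γ.curve.hom Γ.w r).symm).trans
        (congrArg (fun φ : (I.comap Γ.ι).subscheme ⟶ X.left => φ.appTop (Coh.toGlobal X.hom r)) hε.symm)
    exact h

/-- The intersection number is the length of the scheme-theoretic intersection. -/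
theorem inter_eq_lengthH {I : X.left.IdealSheafData} (hI : BlowUp.IsEffCartierIdeal I)
    (hΓ : Models.genPtOf R X Γ ∉ (I.support : Set X.left)) {L : X.left.Modules}
    (hL : ClSub.IsInverseOf L (ClSub.idealMod I)) :
    ArSurf.inter R X L Γ = (Models.lengthH R X (ClSub.quotMod (I ⊔ Γ.ι.ker)) 0 : ℤ) := by
  rw [inter_eq_finrank Γ hI hΓ hL, finrank_eq_lengthH Γ I]

/-- Symmetry for two curves neither of which contains the other. -/
theorem inter_symm (Δ : ArSurf.VertComp R X) (hcΓ : BlowUp.IsEffCartierIdeal Γ.ι.ker)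
    (hcΔ : BlowUp.IsEffCartierIdeal Δ.ι.ker)
    (h₁ : Models.genPtOf R X Γ ∉ Set.range Δ.ι.base) (h₂ : Models.genPtOf R X Δ ∉ Set.range Γ.ι.base)
    {L M : X.left.Modules} (hL : ClSub.IsInverseOf L (ClSub.idealMod Γ.ι.ker))
    (hM : ClSub.IsInverseOf M (ClSub.idealMod Δ.ι.ker)) :
    ArSurf.inter R X M Γ = ArSurf.inter R X L Δ := by
  rw [inter_eq_lengthH Γ hcΔ (by
      rwa [Scheme.Hom.support_ker, Δ.ι.isClosedEmbedding.isClosed_range.closure_eq]) hM,
    inter_eq_lengthH Δ hcΓ (by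
      rwa [Scheme.Hom.support_ker, Γ.ι.isClosedEmbedding.isClosed_range.closure_eq]) hL, sup_comm]

end Groth.Agent.VertInter
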