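import Groth.Agent.VertInter.List
import Groth.Agent.S7919
import Groth.Agent.S1684
import Groth.Agent.ProjProper.Basic
import Mathlib.RingTheory.DiscreteValuationRing.TFAE

/-!
# Vertical prime divisors of arithmetic surfaces
-/

set_option autoImplicit false
set_option linter.style.haveILetI false
universe u
open CategoryTheory CategoryTheory.Limits AlgebraicGeometry TopologicalSpace

namespace Groth.Agent.VertInter

variable {R : Type u} [CommRing R] [IsDomain R] [IsDiscreteValuationRing R]
  {X : Over (Spec (CommRingCat.of R))} (hX : ArSurf.IsArithSurface R X)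

include hX in
theorem isProper_of_arith : IsProper X.hom :=
  ProjProper.Basic.isProper_of_isProjectiveOver R X hX.2.2.2.2

omit [IsDomain R] [IsDiscreteValuationRing R] in
theorem regular_of_arith [IsDomain R] [IsDiscreteValuationRing R] (hX : ArSurf.IsArithSurface R X) :
    Models.IsRegularScheme X.left := hX.1

include hX in
/-- A vertical prime divisor of an arithmetic surface is a component of the closed fibre. -/
theorem mem_fibreComponents (Γ : ArSurf.VertComp R X) :
    Set.range Γ.ι.base ∈ Models.fibreComponents R X := by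
  haveI : IsIntegral X.left := hX.2.1
  haveI : Flat X.hom := hX.2.2.2.1
  have hcl : IsClosed (Set.range Γ.ι.base) := Γ.ι.isClosedEmbedding.isClosed_range
  have hirr : IsIrreducible (Set.range Γ.ι.base) := by
    rw [S3313.range_eq_closure Γ.ι]; exact isIrreducible_singleton.closure
  have hdim : topologicalKrullDim (Set.range Γ.ι.base) = 1 := by
    rw [← (Γ.ι.isEmbedding.toHomeomorph.isHomeomorph.topologicalKrullDim_eq _ :
      topologicalKrullDim Γ.curve.left = _)]
    exact Γ.dim_eq
  have hsub : Set.range Γ.ι.base ⊆ Models.specialFibreSet R X := by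
    rintro _ ⟨c, rfl⟩
    change X.hom (Γ.ι c) = IsLocalRing.closedPoint R
    rw [← Scheme.Hom.comp_apply, Γ.w, Scheme.Hom.comp_apply]
    refine PrimeSpectrum.ext ?_
    change Ideal.comap (IsLocalRing.residue R) (Γ.curve.hom c).asIdeal = IsLocalRing.maximalIdeal R
    rw [(Ideal.eq_bot_or_top (Γ.curve.hom c).asIdeal).resolve_right (Γ.curve.hom c).isPrime.ne_top]
    exact IsLocalRing.ker_residue
  rcases S7919.result (IsDiscreteValuationRing.not_isField R) X hX.2.2.1 hX.2.2.2.2 _ hcl hirr hdim with
    ⟨s, -, hs, hmax⟩ | ⟨x, hx0, -, hD⟩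
  · obtain ⟨c⟩ := (inferInstance : Nonempty Γ.curve.left)
    have hs' : s = IsLocalRing.closedPoint R :=
      (hs ⟨c, rfl⟩ : X.hom.base (Γ.ι c) = s).symm.trans (hsub ⟨c, rfl⟩)
    subst hs'
    exact ⟨⟨hirr, hsub⟩, fun S hS hle => (hmax S hS.1 hS.2 hle).le⟩
  · have hxm : X.hom.base x = IsLocalRing.closedPoint R := hsub (hD ▸ subset_closure rfl)
    rw [hxm] at hx0
    exact absurd hx0 (IsDiscreteValuationRing.not_a_field R)

include hX in
/-- A vertical prime divisor of an arithmetic surface is an effective Cartier divisor. -/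
theorem isEffCartier_vert (Γ : ArSurf.VertComp R X) : BlowUp.IsEffCartierIdeal Γ.ι.ker := by
  haveI := isProper_of_arith hX
  haveI : Flat X.hom := hX.2.2.2.1
  haveI : IsLocallyNoetherian X.left := LocallyOfFiniteType.isLocallyNoetherian X.hom
  haveI : ∀ x : X.left, IsDomain (X.left.presheaf.stalk x) := fun x =>
    haveI := hX.1 x
    RegLoc.isDomain _
  haveI : ∀ x : X.left, UniqueFactorizationMonoid (X.left.presheaf.stalk x) := fun x =>
    haveI := hX.1 x
    RegLoc.UFD.uniqueFactorizationMonoid _
  obtain ⟨ϖ, hϖ⟩ := IsDiscreteValuationRing.exists_irreducible R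
  set ξ := Models.genPtOf R X Γ with hξ
  have hcomp := mem_fibreComponents hX Γ
  have hξF : ξ ∈ Models.specialFibreSet R X := hcomp.1.2 ⟨_, rfl⟩
  have ht0 := S3313.stalkHom_ne_zero X hϖ ξ
  obtain ⟨a, ha, hat⟩ := WfDvdMonoid.exists_irreducible_factor ((S3313.mem_fibre_iff X hϖ ξ).mp hξF) ht0
  have hap : Prime a := UniqueFactorizationMonoid.irreducible_iff_prime.mp ha
  haveI : (Ideal.span {a}).IsPrime := (Ideal.span_singleton_prime hap.ne_zero).mpr hap
  obtain ⟨z, hz, hza⟩ := CDivLib.exists_genPrime_eq (Ideal.span {a})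
  have hzF : z ∈ Models.specialFibreSet R X := by
    rw [S3313.mem_fibre_iff X hϖ, ← S3313.stalkHom_specializes X hz]
    have : Models.stalkHom R X ξ ϖ ∈ CDivLib.genPrime hz := by
      rw [hza]; exact Ideal.mem_span_singleton.mpr hat
    exact this
  have hzξ : z = ξ := by
    have hle : Set.range Γ.ι.base ⊆ closure {z} := by
      rw [S3313.range_eq_closure Γ.ι]
      exact closure_minimal (Set.singleton_subset_iff.mpr (specializes_iff_mem_closure.mp hz)) isClosed_closure
    have h := hcomp.2 ⟨isIrreducible_singleton.closure,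
      closure_minimal (Set.singleton_subset_iff.mpr hzF) (Models.isClosed_specialFibreSet R X)⟩ hle
    have hzc : z ∈ Set.range Γ.ι.base := h (subset_closure rfl)
    rw [S3313.range_eq_closure Γ.ι] at hzc
    exact (hz.antisymm (specializes_iff_mem_closure.mpr hzc)).eq
  subst hzξ
  have hmax : IsLocalRing.maximalIdeal (X.left.presheaf.stalk ξ) = Ideal.span {a} := by
    rw [← hza, ← CDivLib.map_genPrime hz]
    rw [show (X.left.presheaf.stalkSpecializes hz) = 𝟙 _ from TopCat.Presheaf.stalkSpecializes_refl _ _]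
    exact Ideal.map_id _
  haveI : IsRegularLocalRing (X.left.presheaf.stalk ξ) := hX.1 ξ
  have hnf : ¬ IsField (X.left.presheaf.stalk ξ) := fun hf => by
    rw [IsLocalRing.isField_iff_maximalIdeal_eq.mp hf, eq_comm, Ideal.span_singleton_eq_bot] at hmax
    exact hap.ne_zero hmax
  haveI : IsDiscreteValuationRing (X.left.presheaf.stalk ξ) :=
    ((IsDiscreteValuationRing.TFAE (X.left.presheaf.stalk ξ) hnf).out 0 4).mpr
      (⟨⟨a, hmax⟩⟩ : (IsLocalRing.maximalIdeal (X.left.presheaf.stalk ξ)).IsPrincipal)
  haveI : IsIntegral Γ.ι.ker.subscheme := IsIntegral.of_isIso Γ.ι.toImage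
  refine S1684.result X.left Γ.ι.ker ?_ (fun x _ => ⟨inferInstance, inferInstance⟩)
  have hgen : Γ.ι.ker.subschemeι (genericPoint ↥Γ.ι.ker.subscheme) = ξ := by
    rw [← genericPoint_eq_of_isOpenImmersion Γ.ι.toImage, ← Scheme.Hom.comp_apply]
    exact congrArg (fun f : Γ.curve.left ⟶ X.left => f (genericPoint Γ.curve.left)) Γ.ι.toImage_imageι
  rw [hgen]
  exact IsDiscreteValuationRing.ringKrullDim_eq_one _

include hX in
theorem genPt_not_mem_of_ne (Γ Δ : ArSurf.VertComp R X) (hne : Set.range Γ.ι.base ≠ Set.range Δ.ι.base) :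
    Models.genPtOf R X Γ ∉ Set.range Δ.ι.base := by
  intro h
  have hle : Set.range Γ.ι.base ⊆ Set.range Δ.ι.base := by
    rw [S3313.range_eq_closure Γ.ι]
    exact closure_minimal (Set.singleton_subset_iff.mpr h) Δ.ι.isClosedEmbedding.isClosed_range
  exact hne (le_antisymm hle ((mem_fibreComponents hX Γ).2 (mem_fibreComponents hX Δ).1 hle))

end Groth.Agent.VertInter
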