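import Groth.Agent.S14399
import Groth.Agent.S10830
import Mathlib.RingTheory.Ideal.KrullsHeightTheorem

/-!
# Component lists of connected closed fibres of flat proper surfaces
-/

set_option autoImplicit false
set_option linter.style.haveILetI false
universe u
open CategoryTheory CategoryTheory.Limits AlgebraicGeometry TopologicalSpace

namespace Groth.Agent.VertInter

variable {R : Type u} [CommRing R] [IsDomain R] [IsDiscreteValuationRing R] {X : Scheme.{u}}
  (p : X ⟶ Spec (CommRingCat.of R))

theorem isClosed_of_mem_fibreComponents {Z : Set X} (hZ : Z ∈ Models.fibreComponents R (Over.mk p)) :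
    IsClosed Z := by
  refine isClosed_of_closure_subset (hZ.2 ⟨hZ.1.1.closure, ?_⟩ subset_closure)
  exact (Models.isClosed_specialFibreSet R (Over.mk p)).closure_subset_iff.mpr hZ.1.2

theorem exists_cover_fibreComponents [NoetherianSpace X] :
    (Models.fibreComponents R (Over.mk p)).Finite ∧
      ∀ y ∈ Models.specialFibreSet R (Over.mk p), ∃ W ∈ Models.fibreComponents R (Over.mk p), y ∈ W := by
  obtain ⟨S, hS, hSc, hSi, e⟩ := NoetherianSpace.exists_finite_set_isClosed_irreducible (α := X)
    (s := Models.specialFibreSet R (Over.mk p)) (Models.isClosed_specialFibreSet R (Over.mk p))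
  classical
  have hsub : ∀ Z : Set X, IsIrreducible Z → Z ⊆ Models.specialFibreSet R (Over.mk p) → ∃ T ∈ S, Z ⊆ T :=
    fun Z hZ hZs => by
      obtain ⟨T, hT, hZT⟩ := isIrreducible_iff_sUnion_isClosed.mp hZ hS.toFinset
        (fun z hz => hSc z (hS.mem_toFinset.mp hz)) (by rw [hS.coe_toFinset]; exact hZs.trans e.le)
      exact ⟨T, hS.mem_toFinset.mp hT, hZT⟩
  have hin : ∀ T ∈ S, T ⊆ Models.specialFibreSet R (Over.mk p) := fun T hT =>
    (Set.subset_sUnion_of_mem hT).trans e.ge
  refine ⟨hS.subset fun Z hZ => ?_, fun y hy => ?_⟩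
  · obtain ⟨T, hT, hZT⟩ := hsub Z hZ.1.1 hZ.1.2
    rwa [Set.Subset.antisymm hZT (hZ.2 ⟨hSi T hT, hin T hT⟩ hZT)]
  · obtain ⟨T, hT, hyT⟩ := Set.mem_sUnion.mp (e.le hy)
    obtain ⟨W, hTW, hW⟩ := hS.exists_le_maximal hT
    refine ⟨W, ⟨⟨hSi W hW.1, hin W hW.1⟩, fun S' hS' hWS' => ?_⟩, hTW hyT⟩
    obtain ⟨T', hT', hle⟩ := hsub S' hS'.1 hS'.2
    exact hle.trans (hW.2 hT' (hWS'.trans hle))

theorem finite_fibreComponents [NoetherianSpace X] : (Models.fibreComponents R (Over.mk p)).Finite :=
  (exists_cover_fibreComponents p).1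

/-- A closed fibre is not a single point, on a surface. -/
theorem specialFibreSet_ne_singleton [IsIntegral X] [IsProper p] (hdim : topologicalKrullDim X = 2)
    {x : X} : Models.specialFibreSet R (Over.mk p) ≠ {x} := fun hs => by
  haveI : IsLocallyNoetherian X := LocallyOfFiniteType.isLocallyNoetherian p
  have hall : ∀ y : X, y ⤳ x := fun y => by
    have h1 : IsClosed (p.base '' closure ({y} : Set X)) := p.isClosedMap _ isClosed_closure
    have h2 : IsLocalRing.closedPoint R ∈ p.base '' closure ({y} : Set X) :=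
      ((IsLocalRing.specializes_closedPoint (p.base y)).mem_closed h1 ⟨y, subset_closure rfl, rfl⟩)
    obtain ⟨z, hz, hzc⟩ := h2
    have hzx : z = x := (hs.le (hzc : z ∈ Models.specialFibreSet R (Over.mk p)) : z ∈ ({x} : Set X))
    exact specializes_iff_mem_closure.mpr (hzx ▸ hz)
  obtain ⟨U, hU, hxU, -⟩ := exists_isAffineOpen_mem_and_subset (U := (⊤ : X.Opens)) (x := x) trivial
  have hUtop : U = ⊤ := eq_top_iff.mpr fun y _ => (hall y).mem_open U.isOpen hxU
  subst hUtop
  haveI : IsNoetherianRing Γ(X, ⊤) := IsLocallyNoetherian.component_noetherian ⟨_, hU⟩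
  let e : (X : Type u) ≃ₜ PrimeSpectrum Γ(X, ⊤) :=
    (Homeomorph.Set.univ X).symm.trans hU.isoSpec.hom.homeomorph
  have h1 := e.isHomeomorph.topologicalKrullDim_eq _
  rw [hdim, PrimeSpectrum.topologicalKrullDim_eq_ringKrullDim] at h1
  have h2 : ringKrullDim Γ(X, ⊤) ≤ 1 := by
    rw [ringKrullDim_le_iff_isMaximal_height_le]
    intro m hm
    refine WithBot.coe_le_coe.mpr ?_
    obtain ⟨ϖ, hϖ⟩ := IsDiscreteValuationRing.exists_irreducible R
    let π : Γ(X, ⊤) := S13746.str p ⊤ ϖ
    have hbas : ∀ y : X, y ∈ X.basicOpen π ↔ p.base y ≠ IsLocalRing.closedPoint R := fun y => by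
      have hD := S13746.dOpen_eq_preimage p ϖ
      rw [show X.basicOpen π = S13746.dOpen p ϖ from rfl, ← SetLike.mem_coe, hD]
      show ϖ ∉ (p.base y).asIdeal ↔ _
      refine ⟨fun h e => h (e ▸ (IsLocalRing.mem_maximalIdeal _).mpr hϖ.not_isUnit), fun h hmem => h ?_⟩
      exact PrimeSpectrum.ext ((IsLocalRing.maximalIdeal.isMaximal R).eq_of_le (p.base y).isPrime.ne_top
        (hϖ.maximalIdeal_eq ▸ (Ideal.span_singleton_le_iff_mem _).mpr hmem)).symm
    -- the point corresponding to a prime
    have hprime : ∀ q : PrimeSpectrum Γ(X, ⊤), π ∈ q.asIdeal → hU.fromSpec.base q = x := fun q hq => by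
      refine (hs.le ?_ : _ ∈ ({x} : Set X))
      by_contra hne
      have h3 : q ∈ hU.fromSpec ⁻¹ᵁ X.basicOpen π := (hbas _).mpr hne
      rw [hU.fromSpec_preimage_basicOpen] at h3
      exact h3 hq
    let qm : PrimeSpectrum Γ(X, ⊤) := ⟨m, hm.isPrime⟩
    have hmax : ∀ q : PrimeSpectrum Γ(X, ⊤), hU.fromSpec.base q = x → q = qm := fun q hq => by
      have h3 : hU.fromSpec.base qm = x := by
        have h4 := (hall (hU.fromSpec.base qm))
        rw [← hq] at h4
        have h5 : qm ⤳ q := hU.fromSpec.isOpenEmbedding.isInducing.specializes_iff.mp h4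
        have h6 := (PrimeSpectrum.le_iff_specializes qm q).mpr h5
        have h7 : q = qm := PrimeSpectrum.ext (hm.eq_of_le q.isPrime.ne_top h6).symm
        exact h7 ▸ hq
      exact hU.fromSpec.isOpenEmbedding.injective (hq.trans h3.symm)
    have hmem : m ∈ (Ideal.span {π}).minimalPrimes := by
      have hπm : π ∈ m := by
        obtain ⟨q, hq⟩ : x ∈ Set.range hU.fromSpec.base := by rw [hU.range_fromSpec]; trivial
        have hqm := hmax q hq
        subst hqm
        by_contra hπ
        have h3 : qm ∈ hU.fromSpec ⁻¹ᵁ X.basicOpen π := by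
          rw [hU.fromSpec_preimage_basicOpen]; exact hπ
        exact (hbas _).mp h3 (hq ▸ (hs.ge rfl : x ∈ Models.specialFibreSet R (Over.mk p)))
      refine ⟨⟨hm.isPrime, (Ideal.span_singleton_le_iff_mem _).mpr hπm⟩, ?_⟩
      rintro q ⟨hq, hπq⟩ -
      have h3 := hmax ⟨q, hq⟩ (hprime ⟨q, hq⟩ ((Ideal.span_singleton_le_iff_mem _).mp hπq))
      exact (congrArg PrimeSpectrum.asIdeal h3).ge
    exact Ideal.height_le_one_of_isPrincipal_of_mem_minimalPrimes _ m hmem
  rw [← h1] at h2
  exact absurd h2 (by norm_num)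

/-- The components of a connected closed fibre of a flat proper surface are curves. -/
theorem dim_fibreComponent [IsIntegral X] [IsProper p] [Flat p] (hdim : topologicalKrullDim X = 2)
    (hconn : _root_.IsPreconnected (Models.specialFibreSet R (Over.mk p)))
    {Z : Set X} (hZ : Z ∈ Models.fibreComponents R (Over.mk p)) : topologicalKrullDim Z = 1 := by
  haveI : IsLocallyNoetherian X := LocallyOfFiniteType.isLocallyNoetherian p
  haveI : CompactSpace X := QuasiCompact.compactSpace_of_compactSpace p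
  haveI : AlgebraicGeometry.IsNoetherian X := {}
  have hZc := isClosed_of_mem_fibreComponents p hZ
  have hne : Z ≠ Set.univ := fun h => by
    obtain ⟨ϖ, hϖ⟩ := IsDiscreteValuationRing.exists_irreducible R
    have hbot : S13746.dOpen p ϖ = ⊥ := Opens.ext (Set.eq_empty_iff_forall_notMem.mpr fun y hy => by
      rw [S13746.dOpen_eq_preimage] at hy
      have h1 : p.base y = IsLocalRing.closedPoint R := hZ.1.2 (h ▸ Set.mem_univ y)
      exact hy (h1 ▸ (IsLocalRing.mem_maximalIdeal _).mpr hϖ.not_isUnit))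
    have h0 := S13746.eq_zero_of_res p hϖ.ne_zero ⊤ (1 : Γ(X, ⊤)) (V := ⊥) bot_le (by rw [hbot]; simp)
      (by
        haveI : Subsingleton Γ(X, (⊥ : X.Opens)) :=
          CommRingCat.subsingleton_of_isTerminal X.sheaf.isTerminalOfEmpty
        exact Subsingleton.elim _ _)
    exact one_ne_zero h0
  have hlt : topologicalKrullDim Z < 2 := hdim ▸ S10830.result X (by rw [hdim]; decide) Z hZc hne
  haveI : IrreducibleSpace Z := Subtype.irreducibleSpace hZ.1.1
  have hpos : 0 < topologicalKrullDim Z := by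
    obtain ⟨η, hη⟩ : ∃ η, IsGenericPoint η Z :=
      ⟨_, IsIrreducible.isGenericPoint_genericPoint hZ.1.1 hZc⟩
    by_cases hsing : Z = {η}
    · exfalso
      have hfin := finite_fibreComponents p
      let T : Set X := ⋃ W ∈ Models.fibreComponents R (Over.mk p) \ {Z}, W
      have hTc : IsClosed T := (hfin.subset Set.sdiff_subset).isClosed_biUnion fun W hW =>
        isClosed_of_mem_fibreComponents p hW.1
      have hηT : η ∉ T := fun hmem => by
        obtain ⟨W, ⟨hW, hWZ⟩, hηW⟩ := Set.mem_iUnion₂.mp hmem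
        refine hWZ (Set.Subset.antisymm (hZ.2 hW.1 ?_) ?_)
        · rw [hsing]; exact Set.singleton_subset_iff.mpr hηW
        · rw [hsing]; exact Set.singleton_subset_iff.mpr hηW
      have hcov : Models.specialFibreSet R (Over.mk p) ⊆ Z ∪ T := fun y hy => by
        obtain ⟨W, hW, hyW⟩ := (exists_cover_fibreComponents p).2 y hy
        by_cases hWZ : W = Z
        · exact Or.inl (hWZ ▸ hyW)
        · exact Or.inr (Set.mem_iUnion₂.mpr ⟨W, ⟨hW, hWZ⟩, hyW⟩)
      have hdisj : Models.specialFibreSet R (Over.mk p) ∩ (Z ∩ T) = ∅ := by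
        refine Set.eq_empty_iff_forall_notMem.mpr fun y hy => hηT ?_
        have hy1 : y = η := by have := hy.2.1; rwa [hsing] at this
        exact hy1 ▸ hy.2.2
      rcases (isPreconnected_iff_subset_of_disjoint_closed.mp hconn) Z T hZc hTc hcov hdisj with h | h
      · exact specialFibreSet_ne_singleton p hdim (x := η) (hsing ▸ Set.Subset.antisymm h hZ.1.2)
      · exact hηT (h (hZ.1.2 hη.mem))
    · obtain ⟨z, hzZ, hzη⟩ : ∃ z ∈ Z, z ≠ η := by
        by_contra hcon
        push Not at hcon
        exact hsing (Set.Subset.antisymm (fun z hz => hcon z hz) (Set.singleton_subset_iff.mpr hη.mem))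
      refine Order.krullDim_pos_iff.mpr ⟨⟨closure {⟨z, hzZ⟩}, isIrreducible_singleton.closure, isClosed_closure⟩,
        ⟨Set.univ, IrreducibleSpace.isIrreducible_univ Z, isClosed_univ⟩, ?_⟩
      refine lt_of_le_of_ne (fun _ _ => trivial) fun h => hzη ?_
      have h1 : (⟨η, hη.mem⟩ : Z) ∈ closure ({⟨z, hzZ⟩} : Set Z) := by
        have h3 : closure ({⟨z, hzZ⟩} : Set Z) = Set.univ := congrArg (fun c : IrreducibleCloseds Z => (c : Set Z)) h
        rw [h3]; trivial
      have h2 : z ⤳ η := (specializes_iff_mem_closure.mpr h1 : (⟨z, hzZ⟩ : Z) ⤳ ⟨η, hη.mem⟩).map continuous_subtype_val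
      exact (h2.antisymm (hη.specializes hzZ)).eq
  revert hlt hpos
  generalize topologicalKrullDim Z = d
  intro hlt hpos
  cases d using WithBot.recBotCoe with
  | bot => simp at hpos
  | coe a =>
    cases a using ENat.recTopCoe with
    | top => exact absurd hlt (by simp)
    | coe b =>
      have h1 : (b : ℕ∞) < ((2 : ℕ) : ℕ∞) := WithBot.coe_lt_coe.mp hlt
      have h2 : ((0 : ℕ) : ℕ∞) < (b : ℕ∞) := WithBot.coe_lt_coe.mp hpos
      rw [Nat.cast_lt] at h1 h2
      obtain rfl : b = 1 := by omega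
      rfl

/-- A connected closed fibre of a flat proper surface has a component list. -/
theorem exists_componentList [IsIntegral X] [IsProper p] [Flat p] (hdim : topologicalKrullDim X = 2)
    (hconn : _root_.IsPreconnected (Models.specialFibreSet R (Over.mk p))) :
    ∃ (n : ℕ) (Γ : Fin n → ArSurf.VertComp R (Over.mk p)), Models.IsComponentList R (Over.mk p) Γ := by
  haveI : IsLocallyNoetherian X := LocallyOfFiniteType.isLocallyNoetherian p
  haveI : CompactSpace X := QuasiCompact.compactSpace_of_compactSpace p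
  haveI : AlgebraicGeometry.IsNoetherian X := {}
  obtain ⟨n, e, he0, he⟩ := (finite_fibreComponents p).fin_param
  have hmem : ∀ i, e i ∈ Models.fibreComponents R (Over.mk p) := fun i => he.le ⟨i, rfl⟩
  choose Γ hΓ using fun i => S14399.exists_vertComp (Over.mk p) (e i)
    (isClosed_of_mem_fibreComponents p (hmem i)) (hmem i).1.1 (hmem i).1.2 (dim_fibreComponent p hdim hconn (hmem i))
  refine ⟨n, Γ, fun i j h => he0 ?_, ?_⟩
  · rw [← hΓ i, ← hΓ j]; exact h
  · rw [← he]
    exact congrArg Set.range (funext hΓ)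

end Groth.Agent.VertInter
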