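import Groth.Agent.EulerChar.Cartier
import Groth.Agent.EulerChar.Deg
import Groth.Agent.EulerChar.Restrict
import Groth.Agent.Snapper.Basic
import Groth.Agent.PicLaw.Basic
import Groth.Agent.PicCl.Basic
import Groth.Agent.PicAlg.IdealPull
import Groth.Agent.NegVan.Twist
import Groth.Agent.S3313
import Groth.Prelude.Def_ArSurf
import Groth.Prelude.Def_Omega2

/-!
# Degrees of line bundles on vertical curves
-/

set_option autoImplicit false
set_option linter.style.haveILetI false
universe u
open CategoryTheory CategoryTheory.Limits AlgebraicGeometry TopologicalSpace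

namespace Groth.Agent.VertInter

variable {R : Type u} [CommRing R] [IsDomain R] [IsDiscreteValuationRing R]
  {X : Over (Spec (CommRingCat.of R))} [IsProper X.hom] (Γ : ArSurf.VertComp R X)

local notation "k" => IsLocalRing.ResidueField R

instance isProper_curve : IsProper (Γ.curve.left ↘ Spec (CommRingCat.of k)) := by
  change IsProper Γ.curve.hom
  haveI : IsClosedImmersion (Spec.map (CommRingCat.ofHom (IsLocalRing.residue R))) :=
    IsClosedImmersion.spec_of_surjective _ IsLocalRing.residue_surjective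
  haveI : IsProper (Γ.curve.hom ≫ Spec.map (CommRingCat.ofHom (IsLocalRing.residue R))) := by
    rw [← Γ.w]; infer_instance
  exact IsProper.of_comp Γ.curve.hom (Spec.map (CommRingCat.ofHom (IsLocalRing.residue R)))

theorem inter_eq_deg (L : X.left.Modules) :
    ArSurf.inter R X L Γ = Curv2.deg k Γ.curve.left ((Scheme.Modules.pullback Γ.ι).obj L) 1 := by
  rw [ArSurf.inter, ArSurf.curveDeg, Snapper.eulerCharLE_eq k Γ.dim_eq.le,
    Snapper.eulerCharLE_eq k Γ.dim_eq.le, Curv2.deg, Nat.cast_one, one_mul]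

omit [IsProper X.hom] in
theorem pullback_invertible {L : X.left.Modules} (hL : PicF.IsInvertible L) :
    PicF.IsInvertible ((Scheme.Modules.pullback Γ.ι).obj L) := PicCl.isInvertible_pullback Γ.ι hL

theorem inter_iso {L M : X.left.Modules} (e : L ≅ M) : ArSurf.inter R X L Γ = ArSurf.inter R X M Γ := by
  rw [inter_eq_deg, inter_eq_deg, Curv2.deg, Curv2.deg,
    EulerChar.euler_iso k ((Scheme.Modules.pullback Γ.ι).mapIso e)]

theorem inter_structure : ArSurf.inter R X (Coh.structureModule X.left) Γ = 0 := by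
  rw [inter_eq_deg, Curv2.deg, EulerChar.euler_iso k (QCoh.pullbackUnitIso Γ.ι)]
  simp

theorem inter_tensor {L M : X.left.Modules} (hL : PicF.IsInvertible L) (hM : PicF.IsInvertible M) :
    ArSurf.inter R X (CohB1.tensorMod L M) Γ = ArSurf.inter R X L Γ + ArSurf.inter R X M Γ := by
  obtain ⟨e⟩ := PicLaw.pullback_tensor Γ.ι hL hM
  rw [inter_eq_deg, inter_eq_deg, inter_eq_deg, Curv2.deg,
    EulerChar.euler_iso k e]
  have h := EulerChar.deg_tens k (ProjTwist.isFinLocFreeOfRank_one (pullback_invertible Γ hL))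
    Γ.dim_eq.le (ProjTwist.isFinLocFreeOfRank_one (pullback_invertible Γ hM))
  simp only [Curv2.deg, Nat.cast_one, one_mul, mul_one] at h ⊢
  refine h.trans ?_
  ring

theorem isInvertible_tensorPow {L : X.left.Modules} (hL : PicF.IsInvertible L) :
    ∀ a : ℕ, PicF.IsInvertible (CohB1.tensorPow L a)
  | 0 => LFFrame.isInvertible_structureModule _
  | a + 1 => AmpleLib.isInvertible_tensorMod (isInvertible_tensorPow hL a) hL

theorem inter_tensorPow {L : X.left.Modules} (hL : PicF.IsInvertible L) :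
    ∀ a : ℕ, ArSurf.inter R X (CohB1.tensorPow L a) Γ = a * ArSurf.inter R X L Γ
  | 0 => by
    show ArSurf.inter R X (Coh.structureModule X.left) Γ = _
    simp [inter_structure]
  | a + 1 => by
    show ArSurf.inter R X (CohB1.tensorMod _ L) Γ = _
    rw [inter_tensor Γ (isInvertible_tensorPow hL a) hL, inter_tensorPow hL a]
    push_cast; ring

omit [IsProper X.hom] in
theorem isInvertible_inverse {I : X.left.IdealSheafData} (hI : BlowUp.IsEffCartierIdeal I)
    {L : X.left.Modules} (hL : ClSub.IsInverseOf L (ClSub.idealMod I)) : PicF.IsInvertible L :=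
  NegVan.isInvertible_of_inverse (IdealSh.IdealMod.isInvertible_of_isEffCartierIdeal I hI)
    ⟨ProjTwist.tensComm _ _ ≪≫ hL.some⟩

theorem inter_inverse {I : X.left.IdealSheafData} (hI : BlowUp.IsEffCartierIdeal I)
    {L : X.left.Modules} (hL : ClSub.IsInverseOf L (ClSub.idealMod I)) :
    ArSurf.inter R X L Γ + ArSurf.inter R X (ClSub.idealMod I) Γ = 0 := by
  have hI' := IdealSh.IdealMod.isInvertible_of_isEffCartierIdeal I hI
  rw [← inter_tensor Γ (isInvertible_inverse hI hL) hI', inter_iso Γ hL.some, inter_structure]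

omit [IsProper X.hom] in
/-- An effective Cartier divisor not containing the curve restricts to a divisor on it. -/
theorem isEffCartier_comap {I : X.left.IdealSheafData} (hI : BlowUp.IsEffCartierIdeal I)
    (hΓ : Models.genPtOf R X Γ ∉ (I.support : Set X.left)) :
    BlowUp.IsEffCartierIdeal (I.comap Γ.ι) := by
  refine IdealSh.EffCartier.comap_of_forall Γ.ι hI fun U V e a _ ha => ?_
  by_cases hV : Nonempty V.1
  · have hη : genericPoint Γ.curve.left ∈ V.1 := by
      obtain ⟨⟨v, hv⟩⟩ := hV
      exact ((genericPoint_spec Γ.curve.left).specializes trivial).mem_open V.1.isOpen hv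
    refine mem_nonZeroDivisors_of_ne_zero fun h0 => hΓ ?_
    have hU : Γ.ι (genericPoint Γ.curve.left) ∈ U.1 := e hη
    change Γ.ι (genericPoint Γ.curve.left) ∈ I.support
    rw [Scheme.IdealSheafData.mem_support_iff_of_mem hU, ha]
    rw [Scheme.zeroLocus_span, Scheme.zeroLocus_singleton]
    intro hb
    have hu := ((Scheme.mem_basicOpen _ _ _ hU).mp hb).map (Γ.ι.stalkMap (genericPoint Γ.curve.left)).hom
    rw [Γ.ι.germ_stalkMap_apply U.1 _ hU a,
      ← Γ.curve.left.presheaf.germ_res_apply (homOfLE e) _ hη] at hu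
    change IsUnit (Γ.curve.left.presheaf.germ V.1 _ hη ((Γ.ι.appLE U.1 V.1 e) a)) at hu
    rw [h0, map_zero] at hu
    exact not_isUnit_zero hu
  · haveI : IsEmpty V.1 := not_nonempty_iff.mp hV
    haveI : Subsingleton Γ(Γ.curve.left, V.1) := by
      rw [show V.1 = ⊥ from Opens.ext (Set.eq_empty_iff_forall_notMem.mpr fun v hv => IsEmpty.false (α := V.1) ⟨v, hv⟩)]
      infer_instance
    rw [Subsingleton.elim (Γ.ι.appLE U.1 V.1 e a) 1]
    exact one_mem _

/-- Intersection with a divisor not containing the curve is the length of the restricted divisor. -/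
theorem inter_eq_finrank {I : X.left.IdealSheafData} (hI : BlowUp.IsEffCartierIdeal I)
    (hΓ : Models.genPtOf R X Γ ∉ (I.support : Set X.left)) {L : X.left.Modules}
    (hL : ClSub.IsInverseOf L (ClSub.idealMod I)) :
    ArSurf.inter R X L Γ =
      Module.finrank k (Coh.HH Γ.curve.left (ClSub.quotMod (I.comap Γ.ι)) 0) := by
  have hC := isEffCartier_comap Γ hI hΓ
  have hI' := IdealSh.IdealMod.isInvertible_of_isEffCartierIdeal I hI
  have hL' := isInvertible_inverse hI hL
  obtain ⟨e₁⟩ := PicAlg.nonempty_pullback_idealMod Γ.ι I hI hC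
  obtain ⟨e₂⟩ := PicLaw.pullback_tensor Γ.ι hL' hI'
  rw [inter_eq_deg]
  exact EulerChar.deg_inverse_ideal (I.comap Γ.ι) k Γ.dim_eq.le hC (pullback_invertible Γ hL')
    (ProjTwist.tensCongr (Iso.refl _) e₁.symm ≪≫ e₂.symm ≪≫
      (Scheme.Modules.pullback Γ.ι).mapIso hL.some ≪≫ QCoh.pullbackUnitIso Γ.ι)

theorem inter_nonneg {I : X.left.IdealSheafData} (hI : BlowUp.IsEffCartierIdeal I)
    (hΓ : Models.genPtOf R X Γ ∉ (I.support : Set X.left)) {L : X.left.Modules}
    (hL : ClSub.IsInverseOf L (ClSub.idealMod I)) :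
    0 ≤ ArSurf.inter R X L Γ ∧
      (ArSurf.inter R X L Γ = 0 ↔ Disjoint (Set.range Γ.ι.base) (I.support : Set X.left)) := by
  have h := inter_eq_finrank Γ hI hΓ hL
  refine ⟨by rw [h]; exact Int.natCast_nonneg _, ?_⟩
  have hC := isEffCartier_comap Γ hI hΓ
  have hsupp : (((I.comap Γ.ι).support : Set Γ.curve.left)) = Γ.ι.base ⁻¹' I.support := by
    rw [Scheme.IdealSheafData.support_comap, Closeds.coe_preimage]
  have hQ := EulerChar.isCoh_quotMod k (I.comap Γ.ι)
  have hd := (TopDimLib.topDim_le_of_subset (EulerChar.support_quotMod_subset (I.comap Γ.ι))).trans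
    (EulerChar.dim_support_divisor (I.comap Γ.ι) Γ.dim_eq.le hC)
  rw [h, Int.natCast_eq_zero]
  constructor
  · intro h0
    have hz := EulerChar.isZero_of_euler_eq_zero k hQ hd
      (by rw [EulerChar.euler_eq_finrank_of_support k hQ hd, h0]; rfl)
    haveI : Subsingleton (Γ((I.comap Γ.ι).subscheme, ⊤)) := by
      have hs : Subsingleton Γ(ClSub.quotMod (I.comap Γ.ι), ⊤) :=
        subsingleton_of_forall_eq 0 fun m => by
          have := congrArg (fun φ => φ.app ⊤ m) ((IsZero.iff_id_eq_zero _).mp hz)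
          exact this
      exact hs
    rw [Set.disjoint_left]
    rintro _ ⟨c, rfl⟩ hc
    obtain ⟨z, -⟩ : c ∈ Set.range (I.comap Γ.ι).subschemeι := by
      rw [Scheme.IdealSheafData.range_subschemeι, hsupp]; exact hc
    have hu : IsUnit ((I.comap Γ.ι).subscheme.presheaf.germ ⊤ z trivial 1) := isUnit_one.map _
    rw [Subsingleton.elim (1 : Γ((I.comap Γ.ι).subscheme, ⊤)) 0, map_zero] at hu
    exact not_isUnit_zero hu
  · intro hdj
    haveI : IsEmpty (I.comap Γ.ι).subscheme := ⟨fun z => by
      have hz : (I.comap Γ.ι).subschemeι z ∈ ((I.comap Γ.ι).support : Set Γ.curve.left) := by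
        rw [← Scheme.IdealSheafData.range_subschemeι]; exact ⟨z, rfl⟩
      rw [hsupp] at hz
      exact Set.disjoint_left.mp hdj ⟨_, rfl⟩ hz⟩
    have he := EulerChar.euler_eq_finrank_of_support k hQ hd
    rw [EulerChar.euler_of_isZero k ((IsZero.iff_id_eq_zero _).mpr ?_)] at he
    · exact_mod_cast he.symm
    ext U m
    haveI : Subsingleton Γ((I.comap Γ.ι).subscheme, (I.comap Γ.ι).subschemeι ⁻¹ᵁ U) := by
      rw [show (I.comap Γ.ι).subschemeι ⁻¹ᵁ U = ⊥ from Opens.ext (Set.eq_empty_iff_forall_notMem.mpr fun v _ => IsEmpty.false v)]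
      infer_instance
    exact Subsingleton.elim (α := Γ((I.comap Γ.ι).subscheme, (I.comap Γ.ι).subschemeι ⁻¹ᵁ U)) _ _

end Groth.Agent.VertInter
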