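import Groth.Agent.VertInter.Section
import Groth.Agent.BigVol.Multi
import Groth.Agent.PicLaw.Basic

/-!
# Classes of vertical twists in the Picard group
-/

set_option autoImplicit false
set_option linter.style.haveILetI false
universe u
open CategoryTheory CategoryTheory.Limits AlgebraicGeometry TopologicalSpace

noncomputable section

namespace Groth.Agent.VertInter

attribute [local instance] PicLaw.law

variable {X : Scheme.{u}} {n : ℕ} (L : Fin n → X.Modules) (hL : ∀ i, PicF.IsInvertible (L i))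

/-- `v ↦ [⊗ L_i^{v_i}]` -/
def E (v : Fin n → ℤ) : PicLoc.PicSet X := BigVol.Multi.pw (fun i => PicGrp.cls (L i) (hL i)) v

theorem E_add (v w : Fin n → ℤ) : E L hL (v + w) = E L hL v * E L hL w := by
  unfold E BigVol.Multi.pw
  rw [← Finset.prod_mul_distrib]
  exact Finset.prod_congr rfl fun i _ => zpow_add _ _ _

theorem E_mul (v : Fin n → ℤ) (c : ℤ) : E L hL (fun i => c * v i) = E L hL v ^ c := by
  unfold E BigVol.Multi.pw
  rw [← Finset.prod_zpow]
  exact Finset.prod_congr rfl fun i _ => by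
    show _ ^ (c * v i) = (_ ^ v i) ^ c
    rw [mul_comm c, zpow_mul]

theorem E_sub (v w : Fin n → ℤ) : E L hL (v - w) = E L hL v / E L hL w := by
  rw [eq_div_iff_mul_eq', ← E_add, sub_add_cancel]

theorem exists_cls_multiTwist (a : Fin n → ℕ) : ∃ h : PicF.IsInvertible (FGA.multiTwist L a),
    PicGrp.cls _ h = E L hL fun i => (a i : ℤ) := by
  obtain ⟨h, e⟩ := BigVol.Multi.exists_cls_tensorList (fun j => CohB1.tensorPow (L j) (a j))
    (fun j => AmpleLib.isInvertible_tensorPow (hL j) (a j)) (List.finRange n)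
  refine ⟨h, e.trans ?_⟩
  unfold E BigVol.Multi.pw
  simp only [zpow_natCast]
  rw [Fin.prod_univ_def]
  exact congrArg List.prod (List.map_congr_left fun j _ => Subtype.ext (PicGrp.cls_pow_val (hL j) (a j)).symm)

theorem cls_pow {M : X.Modules} (hM : PicF.IsInvertible M) (h : ℕ) :
    PicGrp.cls (CohB1.tensorPow M h) (AmpleLib.isInvertible_tensorPow hM h) = PicGrp.cls M hM ^ h :=
  Subtype.ext (PicGrp.cls_pow_val hM h).symm

theorem cls_tensor {M N : X.Modules} (hM : PicF.IsInvertible M) (hN : PicF.IsInvertible N)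
    (h : PicF.IsInvertible (CohB1.tensorMod M N)) :
    PicGrp.cls (CohB1.tensorMod M N) h = PicGrp.cls M hM * PicGrp.cls N hN :=
  Subtype.ext (PicGrp.cls_mul_cls_val hM hN).symm

theorem exists_toNat (v : Fin n → ℤ) : ∃ a b : Fin n → ℕ, ∀ i, v i = (a i : ℤ) - (b i : ℤ) :=
  ⟨fun i => (v i).toNat, fun i => (-(v i)).toNat, fun i => (Int.toNat_sub_toNat_neg (v i)).symm⟩

end Groth.Agent.VertInter

namespace Groth.Agent.VertInter

section Deg

variable {R : Type u} [CommRing R] [IsDomain R] [IsDiscreteValuationRing R]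
  {X : Over (Spec (CommRingCat.of R))} [IsProper X.hom] (Γ : ArSurf.VertComp R X)

theorem inter_tensorList {ι : Type} (F : ι → X.left.Modules) (hF : ∀ i, PicF.IsInvertible (F i)) :
    ∀ l : List ι, PicF.IsInvertible (FGA.tensorList (l.map F)) ∧
      ArSurf.inter R X (FGA.tensorList (l.map F)) Γ = (l.map fun i => ArSurf.inter R X (F i) Γ).sum
  | [] => ⟨LFFrame.isInvertible_structureModule _, inter_structure Γ⟩
  | i :: l => by
    obtain ⟨h1, h2⟩ := inter_tensorList F hF l
    refine ⟨AmpleLib.isInvertible_tensorMod (hF i) h1, ?_⟩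
    show ArSurf.inter R X (CohB1.tensorMod (F i) (FGA.tensorList (l.map F))) Γ = _
    rw [inter_tensor Γ (hF i) h1, h2, List.map_cons, List.sum_cons]

theorem inter_multiTwist {n : ℕ} (L : Fin n → X.left.Modules) (hL : ∀ i, PicF.IsInvertible (L i))
    (a : Fin n → ℕ) :
    ArSurf.inter R X (FGA.multiTwist L a) Γ = ∑ j, (a j : ℤ) * ArSurf.inter R X (L j) Γ := by
  rw [Fin.sum_univ_def]
  refine (inter_tensorList Γ (fun j => CohB1.tensorPow (L j) (a j))
    (fun j => AmpleLib.isInvertible_tensorPow (hL j) (a j)) _).2.trans ?_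
  exact congrArg List.sum (List.map_congr_left fun j _ => inter_tensorPow Γ (hL j) (a j))

attribute [local instance] PicLaw.law in
theorem inter_of_cls {n : ℕ} (L : Fin n → X.left.Modules) (hL : ∀ i, PicF.IsInvertible (L i))
    {M N : X.left.Modules} (hM : PicF.IsInvertible M) (hN : PicF.IsInvertible N) (v : Fin n → ℤ)
    (h : PicGrp.cls M hM = PicGrp.cls N hN * E L hL v) :
    ArSurf.inter R X M Γ = ArSurf.inter R X N Γ + ∑ j, v j * ArSurf.inter R X (L j) Γ := by
  obtain ⟨a, b, hab⟩ := exists_toNat v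
  obtain ⟨ha, ea⟩ := exists_cls_multiTwist L hL a
  obtain ⟨hb, eb⟩ := exists_cls_multiTwist L hL b
  rw [show v = (fun i => (a i : ℤ)) - fun i => (b i : ℤ) from funext hab, E_sub, ← ea, ← eb, mul_div_assoc',
    eq_div_iff_mul_eq', ← cls_tensor hM hb (AmpleLib.isInvertible_tensorMod hM hb),
    ← cls_tensor hN ha (AmpleLib.isInvertible_tensorMod hN ha), PicGrp.cls_eq_cls_iff] at h
  obtain ⟨e⟩ := h
  have h1 := inter_iso Γ e
  rw [inter_tensor Γ hM hb, inter_tensor Γ hN ha, inter_multiTwist Γ L hL a, inter_multiTwist Γ L hL b] at h1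
  simp only [hab, sub_mul, Finset.sum_sub_distrib]
  linear_combination h1

end Deg

end Groth.Agent.VertInter
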